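import Cfsg.Agent.H356.TU.Frame

/-!
# The isomorphism `SU (n + 1) F q ≃* SJ hF n` of a Witt basis; the matrices of the root elements
-/

set_option autoImplicit false
set_option linter.unusedSectionVars false
set_option linter.unusedSimpArgs false

namespace Cfsg.Agent.H356.TU

open Matrix Cfsg Cfsg.Agent.H356.TA Cfsg.Agent.LieClassical.HermBasic Cfsg.Agent.LieClassical.HermSiegel
open Cfsg.Agent.TitsThree Cfsg.Agent.TitsThree.Siegel Cfsg.Agent.TitsThree.SiegelGen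
  Cfsg.Agent.TitsThree.WittFrame Cfsg.Agent.TitsThree.WBridge Cfsg.Agent.TitsThree.WittWeyl
  Cfsg.Agent.TitsThree.FrameCN Cfsg.Agent.TitsThree.KSideU Cfsg.Agent.TitsThree.KSideUDesc
open Cfsg.Agent.Nodes.RGDTypeA

variable {F : Type*} [Field F] [Fintype F] {q : ℕ} {hF : Fintype.card F = q ^ 2} {n : ℕ} (U : UB hF n)

namespace UB

theorem Pg_inv_mul : (U.Pg⁻¹).1 * U.P = 1 := by
  have h : (U.Pg⁻¹).1 * (U.Pg).1 = 1 := by rw [← Units.val_mul, inv_mul_cancel, Units.val_one]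
  exact h

theorem mul_Pg_inv : U.P * (U.Pg⁻¹).1 = 1 := by
  have h : (U.Pg).1 * (U.Pg⁻¹).1 = 1 := by rw [← Units.val_mul, mul_inv_cancel, Units.val_one]
  exact h

theorem cj_mem {A : SpecialLinearGroup (Fin (n + 1)) F} (hA : A ∈ SU (n + 1) F q) : cjSL U.Pg A ∈ SJ hF n := by
  rw [mem_SU_mat hF] at hA
  rw [mem_SJ, cjSL_val, Pg_val]
  have h1 : U.P * (U.Pg⁻¹).1 = 1 := U.mul_Pg_inv
  have h2 : ((U.Pg⁻¹).1)ᵀ * U.Pᵀ = 1 := by rw [← Matrix.transpose_mul, h1, Matrix.transpose_one]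
  have h3 : U.P.map (conj hF) * ((U.Pg⁻¹).1).map (conj hF) = 1 := by rw [← map_mul_conj, h1, map_one_conj]
  have h4 : ((U.Pg⁻¹).1)ᵀ * Jm F n * ((U.Pg⁻¹).1).map (conj hF) = 1 := by
    rw [← U.gramP]
    calc ((U.Pg⁻¹).1)ᵀ * (U.Pᵀ * U.P.map (conj hF)) * ((U.Pg⁻¹).1).map (conj hF) =
        (((U.Pg⁻¹).1)ᵀ * U.Pᵀ) * (U.P.map (conj hF) * ((U.Pg⁻¹).1).map (conj hF)) := by simp only [Matrix.mul_assoc]
      _ = 1 := by rw [h2, h3, Matrix.one_mul]
  rw [map_mul_conj, map_mul_conj, Matrix.transpose_mul, Matrix.transpose_mul]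
  calc U.Pᵀ * (A.1ᵀ * ((U.Pg⁻¹).1)ᵀ) * Jm F n * (((U.Pg⁻¹).1).map (conj hF) * A.1.map (conj hF) * U.P.map (conj hF)) =
      U.Pᵀ * A.1ᵀ * (((U.Pg⁻¹).1)ᵀ * Jm F n * ((U.Pg⁻¹).1).map (conj hF)) * A.1.map (conj hF) * U.P.map (conj hF) := by
        simp only [Matrix.mul_assoc]
    _ = U.Pᵀ * (A.1ᵀ * A.1.map (conj hF)) * U.P.map (conj hF) := by rw [h4, Matrix.mul_one]; simp only [Matrix.mul_assoc]
    _ = Jm F n := by rw [hA, Matrix.mul_one, U.gramP]

theorem cj_inv_mem {M : SpecialLinearGroup (Fin (n + 1)) F} (hM : M ∈ SJ hF n) : cjSL U.Pg⁻¹ M ∈ SU (n + 1) F q := by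
  rw [mem_SJ] at hM
  rw [mem_SU_mat hF, cjSL_val, inv_inv, Pg_val]
  have h1 : U.P * (U.Pg⁻¹).1 = 1 := U.mul_Pg_inv
  have h2 : ((U.Pg⁻¹).1)ᵀ * U.Pᵀ = 1 := by rw [← Matrix.transpose_mul, h1, Matrix.transpose_one]
  have h3 : U.P.map (conj hF) * ((U.Pg⁻¹).1).map (conj hF) = 1 := by rw [← map_mul_conj, h1, map_one_conj]
  rw [map_mul_conj, map_mul_conj, Matrix.transpose_mul, Matrix.transpose_mul]
  calc ((U.Pg⁻¹).1)ᵀ * (M.1ᵀ * U.Pᵀ) * (U.P.map (conj hF) * M.1.map (conj hF) * ((U.Pg⁻¹).1).map (conj hF)) =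
      ((U.Pg⁻¹).1)ᵀ * (M.1ᵀ * (U.Pᵀ * U.P.map (conj hF)) * M.1.map (conj hF)) * ((U.Pg⁻¹).1).map (conj hF) := by
        simp only [Matrix.mul_assoc]
    _ = ((U.Pg⁻¹).1)ᵀ * (U.Pᵀ * U.P.map (conj hF)) * ((U.Pg⁻¹).1).map (conj hF) := by rw [U.gramP, hM]
    _ = (((U.Pg⁻¹).1)ᵀ * U.Pᵀ) * (U.P.map (conj hF) * ((U.Pg⁻¹).1).map (conj hF)) := by simp only [Matrix.mul_assoc]
    _ = 1 := by rw [h2, h3, Matrix.one_mul]

/-- **`SU (n + 1) F q ≃* SJ hF n`**, `x ↦ P⁻¹ x P` -/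
noncomputable def psi : SU (n + 1) F q ≃* SJ hF n where
  toFun A := ⟨cjSL U.Pg A.1, U.cj_mem A.2⟩
  invFun M := ⟨cjSL U.Pg⁻¹ M.1, U.cj_inv_mem M.2⟩
  left_inv A := Subtype.ext (cjSL_cjSL _ _)
  right_inv M := Subtype.ext (by
    have := cjSL_cjSL U.Pg⁻¹ M.1
    rwa [inv_inv] at this)
  map_mul' A B := Subtype.ext (map_mul _ _ _)

theorem psi_val (A : SU (n + 1) F q) : (U.psi A).1.1 = (U.Pg⁻¹).1 * A.1.1 * (U.Pg).1 := rfl

/-- the linear maps -/
noncomputable def toV : SJ hF n →* ((Fin (n + 1) → F) ≃ₗ[F] (Fin (n + 1) → F)) :=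
  (toLin F q (n + 1)).comp U.psi.symm.toMonoidHom

theorem toV_injective : Function.Injective U.toV := (toLin_injective).comp U.psi.symm.injective

theorem mem_IU {g : (Fin (n + 1) → F) ≃ₗ[F] (Fin (n + 1) → F)} : g ∈ IU F q (n + 1) ↔ ∃ s, U.toV s = g := by
  constructor
  · rintro ⟨A, rfl⟩
    exact ⟨U.psi A, by show toLin F q (n + 1) (U.psi.symm (U.psi A)) = _; rw [MulEquiv.symm_apply_apply]⟩
  · rintro ⟨s, rfl⟩
    exact ⟨_, rfl⟩

theorem toV_mem (s : SJ hF n) : U.toV s ∈ IU F q (n + 1) := ⟨_, rfl⟩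

/-- the columns -/
theorem toV_bv (s : SJ hF n) (y : Fin (n + 1)) : U.toV s (U.bv y) = ∑ x, s.1.1 x y • U.bv x := by
  obtain ⟨A, rfl⟩ := U.psi.surjective s
  have h1 : U.toV (U.psi A) (U.bv y) = A.1.1 *ᵥ U.bv y := by
    show toLin F q (n + 1) (U.psi.symm (U.psi A)) _ = _
    rw [MulEquiv.symm_apply_apply]
    rfl
  rw [h1]
  have h2 : A.1.1 * U.P = U.P * (U.psi A).1.1 := by
    rw [psi_val, Pg_val, ← Matrix.mul_assoc, ← Matrix.mul_assoc, mul_Pg_inv, Matrix.one_mul]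
  funext z
  have h3 := congrFun (congrFun h2 z) y
  rw [Matrix.mul_apply, Matrix.mul_apply] at h3
  rw [Finset.sum_apply]
  have h4 : (A.1.1 *ᵥ U.bv y) z = ∑ j, A.1.1 z j * U.P j y := rfl
  rw [h4, h3]
  refine Finset.sum_congr rfl fun x _ => ?_
  rw [Pi.smul_apply, smul_eq_mul, mul_comm]
  rfl

/-- **the entries** -/
theorem entry (s : SJ hF n) (x y : Fin (n + 1)) : s.1.1 x y = hermForm (n + 1) F q (U.toV s (U.bv y)) (U.bv x.rev) := by
  rw [toV_bv, herm_sum_left, Finset.sum_eq_single x]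
  · rw [herm_smul_left, U.gram, if_pos rfl, mul_one]
  · intro z _ hz
    rw [herm_smul_left, U.gram, if_neg (fun h => hz (Fin.rev_injective h.symm)), mul_zero]
  · intro h; exact absurd (Finset.mem_univ _) h

theorem eq_of_entry {s : SJ hF n} {g : (Fin (n + 1) → F) ≃ₗ[F] (Fin (n + 1) → F)} (hg : g ∈ IU F q (n + 1))
    (h : ∀ x y, s.1.1 x y = hermForm (n + 1) F q (g (U.bv y)) (U.bv x.rev)) : U.toV s = g := by
  obtain ⟨s', rfl⟩ := U.mem_IU.1 hg
  congr 1
  apply Subtype.ext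
  apply Subtype.ext
  ext x y
  rw [h, U.entry]

/-- the Witt frame -/
noncomputable abbrev Fr : Frame (HU hF (n + 1)) (Fin ((n + 1) / 2)) := toFrame U.W

theorem gram' (a : Fin ((n + 1) / 2) × Bool) (y : Fin (n + 1)) :
    hermForm (n + 1) F q (U.bv y) ((U.Fr).b a) = if y = (pos n a).rev then 1 else 0 := by
  rw [← U.hb, U.gram]
  by_cases h : pos n a = y.rev
  · rw [if_pos h, if_pos (by rw [h, Fin.rev_rev])]
  · rw [if_neg h, if_neg (fun h' => h (by rw [h', Fin.rev_rev]))]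

theorem gram'' (a : Fin ((n + 1) / 2) × Bool) (x : Fin (n + 1)) :
    hermForm (n + 1) F q ((U.Fr).b a) (U.bv x.rev) = if x = pos n a then 1 else 0 := by
  rw [← U.hb, U.gram]
  by_cases h : x = pos n a
  · rw [if_pos h, if_pos (by rw [h])]
  · rw [if_neg h, if_neg (fun h' => h (Fin.rev_injective h'))]

theorem herm_X {a b : Fin ((n + 1) / 2) × Bool} (hab : a.1 ≠ b.1) (t : F) (x y : Fin (n + 1)) :
    hermForm (n + 1) F q ((U.Fr).X a b t (U.bv y)) (U.bv x.rev) =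
      (if x = y then 1 else 0) + (if x = pos n a ∧ y = (pos n b).rev then t else 0) -
        (if x = pos n b ∧ y = (pos n a).rev then t ^ q else 0) := by
  have hη : ∀ a, (U.Fr).η a = 1 := by
    intro a
    unfold Frame.η
    rw [HU_ε]
    simp
  have hsc : (U.Fr).sc b t = -t ^ q := by
    unfold Frame.sc
    rw [HU_ε, hη, HU_σ]
    simp
  rw [Frame.X_eq _ hab, HForm.sie_apply, HU_h, HU_h, HU_ε, hsc, zero_mul, zero_smul, add_zero, inv_one, one_mul,
    herm_sub_left, herm_add_left, herm_smul_left, herm_smul_left, herm_smul_left, herm_smul_right, gram', gram',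
    gram'', gram'', U.gram, neg_pow_q hF, pow_q_pow_q hF]
  have e1 : (x.rev = y.rev) ↔ (x = y) := Fin.rev_injective.eq_iff
  simp only [e1]
  rcases Classical.propComplete (x = pos n a) with h1 | h1 <;> rcases Classical.propComplete (x = pos n b) with h2 | h2 <;>
    rcases Classical.propComplete (y = (pos n a).rev) with h3 | h3 <;>
    rcases Classical.propComplete (y = (pos n b).rev) with h4 | h4 <;>
    simp only [h1, h2, h3, h4, if_true, if_false, and_true, and_false, true_and, false_and, mul_one, mul_zero, and_self] <;>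
    ring

theorem herm_Z (a : Fin ((n + 1) / 2) × Bool) (p : (U.Fr).Adm) (x y : Fin (n + 1)) :
    hermForm (n + 1) F q ((U.Fr).Z a p (U.bv y)) (U.bv x.rev) =
      (if x = y then 1 else 0) + (if y = (pos n a).rev then hermForm (n + 1) F q p.w (U.bv x.rev) else 0) -
        (if x = pos n a then hermForm (n + 1) F q (U.bv y) p.w else 0) +
        (if x = pos n a ∧ y = (pos n a).rev then p.c else 0) := by
  unfold Frame.Z
  rw [HForm.sie_apply, HU_h, HU_h, HU_ε, inv_one, one_mul, herm_add_left, herm_sub_left, herm_add_left, herm_smul_left,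
    herm_smul_left, herm_smul_left, gram', gram'', U.gram]
  have e1 : (x.rev = y.rev) ↔ (x = y) := Fin.rev_injective.eq_iff
  simp only [e1]
  rcases Classical.propComplete (x = pos n a) with h1 | h1 <;>
    rcases Classical.propComplete (y = (pos n a).rev) with h3 | h3 <;>
    simp only [h1, h3, if_true, if_false, and_true, and_false, true_and, false_and, mul_one, mul_zero, and_self,
      one_mul, zero_mul]

end UB

end Cfsg.Agent.H356.TU
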