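import Cfsg.Agent.H356.TU.CC

/-!
# Coordinates of the torus of `SJ hF n`; the rank one data `sysU`
-/

set_option autoImplicit false
set_option linter.unusedSectionVars false
set_option linter.unusedSimpArgs false

namespace Cfsg.Agent.H356.TU

open Matrix Cfsg Cfsg.Agent.H356.TA Cfsg.Agent.LieClassical.HermBasic Cfsg.Agent.LieClassical.HermSiegel
open Cfsg.Agent.TitsThree Cfsg.Agent.TitsThree.Siegel Cfsg.Agent.TitsThree.SiegelGen
  Cfsg.Agent.TitsThree.WittFrame Cfsg.Agent.TitsThree.WBridge Cfsg.Agent.TitsThree.WittWeyl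
  Cfsg.Agent.TitsThree.FrameCN Cfsg.Agent.TitsThree.KSideU Cfsg.Agent.TitsThree.KSideUDesc
open Cfsg.Agent.TitsThree.KSideA Cfsg.Agent.Nodes.RGDTypeA
open CoxeterSystem Cfsg.Agent.ChevalleyStructure.CoxeterGeom Cfsg.Agent.Tits.Roots
  Cfsg.Agent.Nodes.Comb Cfsg.Agent.Nodes.Reps Cfsg.Agent.Nodes.BNOf Cfsg.Agent.Nodes.RGDLib
open Cfsg.Agent.Nodes.RGDAllP Cfsg.Agent.Nodes.WittU Cfsg.Agent.Nodes.OppDec Cfsg.Agent.H45.UniE
open Cfsg.Agent.Nodes.TypeC (isCartan nx sg)
open Cfsg.Agent.Nodes.WittRoot (Amb Mono rg)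
open Cfsg.Agent.Nodes.WittRGD (Tor nn nn_mem nn_mem_sup mono_nn)

variable {F : Type*} [Field F] [Fintype F] {q : ℕ} {hF : Fintype.card F = q ^ 2} {n : ℕ} {U : UB hF n}

theorem DA_phi {k : Type*} [Field k] [Algebra F k] (i : Fin n) (s : SJ hF n) :
    DA i (phi hF n k s) = algebraMap F k (DA i s.1) := by
  show ld _ _ = algebraMap F k (ld _ _)
  rw [ld_eq (le_of_fin i), ld_eq (le_of_fin i), RingHom.map_det]
  rfl

/-! ### diagonal elements -/

theorem TS_T {s : SJ hF n} (hs : s ∈ U.TS) : s.1 ∈ T (Fin (n + 1)) F := by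
  rw [mem_T]
  intro x y hxy
  by_contra h
  exact hxy (mem_TS_iff.1 hs x y h)

theorem TS_diag {s : SJ hF n} (hs : s ∈ U.TS) : s.1.1 = diagonal fun x => s.1.1 x x := T_eq_diagonal (TS_T hs)

theorem TS_unit {s : SJ hF n} (hs : s ∈ U.TS) (x : Fin (n + 1)) : s.1.1 x x * (s.1.1 x.rev x.rev) ^ q = 1 := by
  have h1 := mem_SJ'.1 s.2 x x.rev
  rw [if_pos rfl, Finset.sum_eq_single x] at h1
  · exact h1
  · intro z _ hz
    rw [mem_TS_iff.1 hs z x hz, zero_mul]
  · intro h; exact absurd (Finset.mem_univ _) h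

theorem TS_prod {s : SJ hF n} (hs : s ∈ U.TS) : ∏ x, s.1.1 x x = 1 := by
  have h := s.1.2
  rw [TS_diag hs, det_diagonal] at h
  exact h

theorem DA_diag {s : SJ hF n} (hs : s ∈ U.TS) (i : Fin n) :
    DA i s.1 = ∏ x ∈ Finset.univ.filter (fun x : Fin (n + 1) => (x : ℕ) ≤ i), s.1.1 x x := by
  show ld _ s.1.1 = _
  rw [TS_diag hs, ld_diagonal (le_of_fin i)]
  refine Finset.prod_bij (fun a _ => Fin.castLE (le_of_fin i) a) ?_ ?_ ?_ ?_
  · intro a _
    rw [Finset.mem_filter]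
    refine ⟨Finset.mem_univ _, ?_⟩
    show (a : ℕ) ≤ i
    omega
  · intro a _ b _ h
    exact Fin.castLE_injective _ h
  · intro x hx
    rw [Finset.mem_filter] at hx
    exact ⟨⟨x, by omega⟩, Finset.mem_univ _, rfl⟩
  · intro a _
    exact (Matrix.diagonal_apply_eq _ _).symm

theorem eq_one_of_DA (hn : 1 ≤ n) {w : SJ hF n} (hw : w ∈ U.TS)
    (h : ∀ i : Fin n, (i : ℕ) < (n + 1) / 2 → DA i w.1 = 1) : w = 1 := by
  classical
  -- the first half
  have h1 : ∀ x : Fin (n + 1), (x : ℕ) < (n + 1) / 2 → w.1.1 x x = 1 := by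
    intro x
    obtain ⟨x, hx⟩ := x
    induction x using Nat.strong_induction_on with
    | _ x ih =>
      intro hxm
      have hxm' : x < (n + 1) / 2 := hxm
      have h2 := h ⟨x, by omega⟩ hxm'
      rw [DA_diag hw, Finset.prod_eq_single (⟨x, hx⟩ : Fin (n + 1))] at h2
      · exact h2
      · intro b hb hne
        rw [Finset.mem_filter] at hb
        have hb2 : (b : ℕ) ≤ x := hb.2
        have hne' : (b : ℕ) ≠ x := fun e => hne (Fin.ext e)
        exact ih b (by omega) b.2 (by show (b : ℕ) < _; omega)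
      · intro h3
        exfalso
        apply h3
        rw [Finset.mem_filter]
        exact ⟨Finset.mem_univ _, le_refl x⟩
  have h2 : ∀ x : Fin (n + 1), (x.rev : ℕ) < (n + 1) / 2 → w.1.1 x x = 1 := by
    intro x hx
    have h3 := TS_unit hw x.rev
    rw [h1 _ hx, Fin.rev_rev, one_mul] at h3
    have h4 := pow_q_pow_q hF (w.1.1 x x)
    rw [h3, one_pow] at h4
    exact h4.symm
  have h3 : ∀ x : Fin (n + 1), w.1.1 x x = 1 := by
    intro x
    by_cases c1 : (x : ℕ) < (n + 1) / 2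
    · exact h1 x c1
    by_cases c2 : (x.rev : ℕ) < (n + 1) / 2
    · exact h2 x c2
    have h4 := TS_prod hw
    rw [Finset.prod_eq_single x] at h4
    · exact h4
    · intro b _ hb
      have hb' : (b : ℕ) ≠ x := fun e => hb (Fin.ext e)
      rw [Fin.val_rev] at c2
      by_cases c3 : (b : ℕ) < (n + 1) / 2
      · exact h1 b c3
      · refine h2 b ?_
        rw [Fin.val_rev]
        omega
    · intro h; exact absurd (Finset.mem_univ _) h
  apply Subtype.ext
  apply Subtype.ext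
  show w.1.1 = 1
  rw [TS_diag hw, ← Matrix.diagonal_one]
  congr 1
  funext x
  exact h3 x

theorem DA_mul_TS {s : SJ hF n} (hs : s ∈ U.TS) (i : Fin n) (t : SJ hF n) :
    DA i (t * s).1 = DA i s.1 * DA i t.1 := DA_mul_T i (TS_T hs) t.1

theorem DA_one' (i : Fin n) : DA i (1 : SJ hF n).1 = 1 := ld_one (le_of_fin i)

theorem DA_inv {s : SJ hF n} (hs : s ∈ U.TS) (i : Fin n) : DA i s.1 * DA i (s⁻¹).1 = 1 := by
  rw [← DA_mul_TS hs, inv_mul_cancel, DA_one']

theorem DA_ne_zero {s : SJ hF n} (hs : s ∈ U.TS) (i : Fin n) : DA i s.1 ≠ 0 := by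
  intro h
  have h1 := DA_inv hs i
  rw [h, zero_mul] at h1
  exact zero_ne_one h1

theorem eq_of_DA (hn : 1 ≤ n) {s t : SJ hF n} (hs : s ∈ U.TS) (ht : t ∈ U.TS)
    (h : ∀ i : Fin n, (i : ℕ) < (n + 1) / 2 → DA i s.1 = DA i t.1) : s = t := by
  have h1 : s * t⁻¹ = 1 := by
    refine eq_one_of_DA (U := U) hn (mul_mem hs (inv_mem ht)) fun i hi => ?_
    rw [DA_mul_TS (inv_mem ht), h i hi, mul_comm, DA_inv ht]
  exact mul_inv_eq_one.1 h1

/-- the middle coordinate -/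
theorem DA_mid {s : SJ hF n} (hs : s ∈ U.TS) {i : Fin n} (hi : 2 * (i : ℕ) + 2 = n + 1) :
    (DA i s.1) ^ q = DA i s.1 := by
  classical
  set A := Finset.univ.filter (fun x : Fin (n + 1) => (x : ℕ) ≤ i) with hA
  set Q := ∏ x ∈ A, s.1.1 x.rev x.rev with hQ
  have h1 : DA i s.1 * Q = 1 := by
    refine Eq.trans ?_ (TS_prod hs)
    rw [DA_diag hs, ← Finset.prod_filter_mul_prod_filter_not Finset.univ
      (fun x : Fin (n + 1) => (x : ℕ) ≤ i) (fun x => s.1.1 x x), hQ]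
    congr 1
    refine Finset.prod_bij (fun x _ => x.rev) ?_ ?_ ?_ ?_
    · intro x hx
      rw [hA, Finset.mem_filter] at hx
      rw [Finset.mem_filter, Fin.val_rev]
      exact ⟨Finset.mem_univ _, by omega⟩
    · intro a _ b _ h
      exact Fin.rev_injective h
    · intro x hx
      rw [Finset.mem_filter] at hx
      refine ⟨x.rev, ?_, Fin.rev_rev x⟩
      rw [hA, Finset.mem_filter, Fin.val_rev]
      exact ⟨Finset.mem_univ _, by omega⟩
    · intro x _
      rfl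
  have h2 : DA i s.1 * Q ^ q = 1 := by
    rw [DA_diag hs, hQ, ← Finset.prod_pow, ← Finset.prod_mul_distrib]
    exact Finset.prod_eq_one fun x _ => TS_unit hs x
  have h3 : (DA i s.1) ^ q * Q ^ q = 1 := by rw [← mul_pow, h1, one_pow]
  have h4 : Q ^ q ≠ 0 := by
    intro h5
    rw [h5, mul_zero] at h2
    exact zero_ne_one h2
  exact mul_right_cancel₀ h4 (h3.trans h2.symm)

/-- the coordinate of a diagonal element -/
noncomputable def bof {s : SJ hF n} (hs : s ∈ U.TS) (j : Fin ((n + 1) / 2)) : Cs (F := F) q n j :=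
  ⟨Units.mk0 (DA (⟨j, by omega⟩ : Fin n) s.1) (DA_ne_zero hs _), fun h => by
    apply Units.ext
    rw [Units.val_pow_eq_pow_val, Units.val_mk0]
    exact DA_mid hs (i := (⟨j, by omega⟩ : Fin n)) h⟩

theorem bof_val {s : SJ hF n} (hs : s ∈ U.TS) (j : Fin ((n + 1) / 2)) :
    ((bof hs j).1 : F) = DA (⟨j, by omega⟩ : Fin n) s.1 := rfl

theorem DA_hh_F (i : Fin n) (hi : (i : ℕ) < (n + 1) / 2) (j : Fin ((n + 1) / 2)) (b : Cs (F := F) q n j) :
    DA i (hh hF n j b).1 = if (i : ℕ) = j then (b.1 : F) else 1 := by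
  apply (algebraMap F (AlgebraicClosure F)).injective
  rw [← DA_phi, DA_hh]
  have hj := j.2
  have h1 : (orb n i = j) ↔ ((i : ℕ) = j) := by rw [orb_eq_iff]; omega
  simp only [h1]
  split_ifs
  · rw [ee, if_pos hi, pow_one]
    rfl
  · rw [map_one]

theorem DA_list (L : List (SJ hF n)) (hL : ∀ t ∈ L, t ∈ U.TS) (i : Fin n) :
    DA i L.prod.1 = (L.map fun t => DA i t.1).prod := by
  induction L with
  | nil => exact DA_one' i
  | cons t L ih =>
    have h1 : L.prod ∈ U.TS := Subgroup.list_prod_mem _ fun t ht => hL t (List.mem_cons_of_mem _ ht)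
    rw [List.prod_cons, List.map_cons, List.prod_cons, DA_mul_TS h1,
      ih fun t ht => hL t (List.mem_cons_of_mem _ ht), mul_comm]

theorem H_gen (hn : 1 ≤ n) : U.TS ≤ Subgroup.closure {g | ∃ i b, g = hh hF n i b} := by
  intro s hs
  set L : List (SJ hF n) := List.ofFn fun j => hh hF n j (bof hs j) with hLd
  have hL : ∀ t ∈ L, t ∈ U.TS := by
    intro t ht
    rw [hLd, List.mem_ofFn] at ht
    obtain ⟨j, rfl⟩ := ht
    exact hh_mem_TS _ _
  have h1 : s = L.prod := by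
    refine eq_of_DA (U := U) hn hs (Subgroup.list_prod_mem _ hL) fun i hi => ?_
    rw [DA_list L hL, hLd, List.map_ofFn, List.prod_ofFn, Finset.prod_eq_single (⟨i, hi⟩ : Fin ((n + 1) / 2))]
    · show _ = DA i (hh hF n _ _).1
      rw [DA_hh_F i hi, if_pos rfl]
      rfl
    · intro j _ hj
      show DA i (hh hF n _ _).1 = 1
      rw [DA_hh_F i hi, if_neg]
      intro h
      exact hj (Fin.ext h.symm)
    · intro h; exact absurd (Finset.mem_univ _) h
  rw [h1]
  refine Subgroup.list_prod_mem _ fun t ht => ?_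
  rw [hLd, List.mem_ofFn] at ht
  obtain ⟨j, rfl⟩ := ht
  exact Subgroup.subset_closure ⟨j, _, rfl⟩

theorem DA_sup_F {i : Fin ((n + 1) / 2)} {g : SJ hF n} (hg : g ∈ U.XS (sr i) ⊔ U.XS (-sr i)) {j : Fin n}
    (hj : orb n j ≠ i) : DA j g.1 = 1 := by
  apply (algebraMap F (AlgebraicClosure F)).injective
  have h := DA_sup (k := AlgebraicClosure F) hg hj 1
  rw [one_mul, DA_phi] at h
  rw [h, map_one]
  exact ld_one (le_of_fin j)

/-- a diagonal element of the rank one group is a coroot element -/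
theorem eq_hh (hn : 1 ≤ n) {i : Fin ((n + 1) / 2)} {t : SJ hF n} (ht : t ∈ U.TS)
    (ht' : t ∈ U.XS (sr i) ⊔ U.XS (-sr i)) : t = hh hF n i (bof ht i) := by
  refine eq_of_DA (U := U) hn ht (hh_mem_TS _ _) fun j hj => ?_
  rw [DA_hh_F j hj]
  split_ifs with h
  · rw [bof_val]
    congr 1
    exact Fin.ext h
  · exact DA_sup_F ht' fun h1 => h (by rcases orb_eq_iff.1 h1 with h2 | h2 <;> omega)

/-- **the rank one relation** -/
theorem rank {p : ℕ} [Fact p.Prime] [CharP F p] (hn : 1 ≤ n) (i : Fin ((n + 1) / 2)) {u : SJ hF n}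
    (hu : u ∈ U.XS (sr i)) (hne : u ≠ 1) :
    ∃ y ∈ U.XS (-sr i), ∃ b : Cs (F := F) q n i, ∃ x ∈ U.XS (sr i), u * U.nS i = y * hh hF n i b * x := by
  have R := U.rgd (p := p)
  set w := U.nS i with hw
  have hv : w⁻¹ * u * w ∈ U.XS (-sr i) := by
    rw [← mem_cj, Cfsg.Agent.H564.TWP.X_neg_conj R i]
    exact hu
  have hv1 : w⁻¹ * u * w ≠ 1 := by
    intro h
    apply hne
    have : u = w * (w⁻¹ * u * w) * w⁻¹ := by group
    rw [this, h, mul_one, mul_inv_cancel]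
  obtain ⟨a, ha, t, ht, b, hb, e⟩ := R.rk1 i _ hv hv1
  rw [← hw] at e
  have hy : w * a * w⁻¹ ∈ U.XS (-sr i) := by
    have h1 := R.conj i (sr i) (isRoot_sr _ _ i)
    rw [rep_simple_sr] at h1
    rw [← h1, mem_cj]
    have e1 : w⁻¹ * (w * a * w⁻¹) * w = a := by group
    rwa [e1]
  have ht' : w * t * w⁻¹ * (w * w) ∈ U.TS := by
    refine mul_mem ?_ ?_
    · exact (Subgroup.mem_normalizer_iff.1 (R.nsys.norm i) t).1 ht
    · have := R.nsys.rel i i
      rwa [CoxeterMatrix.diagonal, pow_one] at this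
  have e2 : u * w = w * a * w⁻¹ * (w * t * w⁻¹ * (w * w)) * b := by
    have h3 : u * w = w * (w⁻¹ * u * w) := by group
    rw [h3, e]
    group
  have hw' : w ∈ U.XS (sr i) ⊔ U.XS (-sr i) := nS_mem_sup i
  have l1 : U.XS (sr i) ≤ U.XS (sr i) ⊔ U.XS (-sr i) := le_sup_left
  have l2 : U.XS (-sr i) ≤ U.XS (sr i) ⊔ U.XS (-sr i) := le_sup_right
  have ht'' : w * t * w⁻¹ * (w * w) ∈ U.XS (sr i) ⊔ U.XS (-sr i) := by
    have e3 : w * t * w⁻¹ * (w * w) = (w * a * w⁻¹)⁻¹ * (u * w) * b⁻¹ := by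
      rw [e2]
      group
    rw [e3]
    exact mul_mem (mul_mem (inv_mem (l2 hy)) (mul_mem (l1 hu) hw')) (inv_mem (l1 hb))
  refine ⟨_, hy, bof ht' i, b, hb, ?_⟩
  rw [← eq_hh hn ht' ht'']
  exact e2

/-! ### the system -/

variable (U)

theorem rin {p : ℕ} [Fact p.Prime] [CharP F p] (hn : 2 ≤ n) :
    Cfsg.Agent.H564.TWP.RIn (U.rgd (p := p)) (fun j : Fin ((n + 1) / 2) => Cs (F := F) q n j) (hh hF n) U.nS where
  comm := TS_comm
  hh_mem := hh_mem_TS
  H_gen := H_gen (by omega)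
  gen := by rw [U.gen hn, top_sup_eq]
  hn i := ⟨1, one_mem _, (one_mul _).symm⟩
  rank i u hu hne := rank (p := p) (by omega) i hu hne

/-- **the rank one data of `SJ hF n`** -/
noncomputable def sysU {p : ℕ} [Fact p.Prime] [CharP F p] (hn : 2 ≤ n) :
    Cfsg.Agent.H564.TWP.TSys (Fin ((n + 1) / 2)) (fun j => Cs (F := F) q n j) (SJ hF n) :=
  Cfsg.Agent.H564.TWP.ofRGD (U.rgd (p := p)) (rin U hn)

end Cfsg.Agent.H356.TU
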