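import Cfsg.Agent.H356.TU.Map
import Cfsg.Agent.H564.TW.Def

/-!
# The rank one groups of `SJ hF n` in `SL_{n+1}(k)`, values of the leading minors on the Weyl elements
-/

set_option autoImplicit false
set_option linter.unusedSectionVars false
set_option linter.unusedSimpArgs false

namespace Cfsg.Agent.H356.TU

open Matrix Cfsg Cfsg.Agent.H356.TA Cfsg.Agent.LieClassical.HermBasic Cfsg.Agent.LieClassical.HermSiegel
open Cfsg.Agent.TitsThree Cfsg.Agent.TitsThree.Siegel Cfsg.Agent.TitsThree.SiegelGen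
  Cfsg.Agent.TitsThree.WittFrame Cfsg.Agent.TitsThree.WBridge Cfsg.Agent.TitsThree.WittWeyl
  Cfsg.Agent.TitsThree.FrameCN Cfsg.Agent.TitsThree.KSideU Cfsg.Agent.TitsThree.KSideUDesc
open Cfsg.Agent.TitsThree.KSideA Cfsg.Agent.Nodes.RGDTypeA
open CoxeterSystem Cfsg.Agent.ChevalleyStructure.CoxeterGeom Cfsg.Agent.Tits.Roots
  Cfsg.Agent.Nodes.Comb Cfsg.Agent.Nodes.Reps Cfsg.Agent.Nodes.BNOf Cfsg.Agent.Nodes.RGDLib
open Cfsg.Agent.Nodes.RGDAllP Cfsg.Agent.Nodes.WittU Cfsg.Agent.Nodes.OppDec Cfsg.Agent.H45.UniE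
open Cfsg.Agent.Nodes.TypeC (isCartan nx sg)
open Cfsg.Agent.Nodes.WittRoot (Amb Mono rg)
open Cfsg.Agent.Nodes.WittRGD (Tor nn nn_mem nn_mem_sup mono_nn)

section cc

variable {n : ℕ} {k : Type*} [Field k]

variable (n k) in
/-- the group generated by the simple root elements of the orbit `i` -/
def CC (i : Fin ((n + 1) / 2)) : Subgroup (SpecialLinearGroup (Fin (n + 1)) k) :=
  Subgroup.closure {g | ∃ j s, orb n j = i ∧ (g = (fdA n k).x j s ∨ g = (fdA n k).y j s)}

theorem tv_mem_CC {i : Fin ((n + 1) / 2)} {a b : Fin (n + 1)} (j : ℕ) (hj : j < n)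
    (ho : j = i ∨ ((n + 1) / 2 ≤ j ∧ j = n - 1 - i)) (ha : (a : ℕ) = j) (hb : (b : ℕ) = j + 1) (s : k) :
    tv a b s ∈ CC n k i ∧ tv b a s ∈ CC n k i := by
  have hi := i.2
  have ho' : orb n ⟨j, hj⟩ = i := by
    apply Fin.ext
    show (if j < (n + 1) / 2 then j else n - 1 - j) = (i : ℕ)
    rcases ho with h | ⟨h1, h2⟩
    · rw [if_pos (by omega), h]
    · rw [if_neg (by omega)]
      omega
  have ea : a = Fin.castSucc ⟨j, hj⟩ := Fin.ext ha
  have eb : b = Fin.succ ⟨j, hj⟩ := Fin.ext hb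
  rw [ea, eb]
  exact ⟨Subgroup.subset_closure ⟨_, s, ho', Or.inl rfl⟩, Subgroup.subset_closure ⟨_, s, ho', Or.inr rfl⟩⟩

end cc

section

variable {F : Type*} [Field F] [Fintype F] {q : ℕ} {hF : Fintype.card F = q ^ 2} {n : ℕ} {U : UB hF n}
  {k : Type*} [Field k] [Algebra F k]

theorem phi_X {i : Fin ((n + 1) / 2)} {s : SJ hF n} (hs : s ∈ U.XS (sr i)) : phi hF n k s ∈ CC n k i := by
  have hi' := i.2
  rw [phi_val]
  by_cases hi : (i : ℕ) + 1 < (n + 1) / 2
  · obtain ⟨t, ht⟩ := (UB.mem_XS_sr hi).1 hs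
    rw [ht, bcA_mX]
    refine mul_mem (tv_mem_CC i (by omega) (Or.inl rfl) (val_pos_true i) ?_ _).1
      (tv_mem_CC (n - 1 - i) (by omega) (Or.inr ⟨by omega, rfl⟩) ?_ ?_ _).1
    · rw [Fin.val_rev, val_pos_false]; show n + 1 - (n - ((i : ℕ) + 1) + 1) = _; omega
    · rw [val_pos_false]; show n - ((i : ℕ) + 1) = _; omega
    · rw [Fin.val_rev, val_pos_true]; omega
  · obtain ⟨ω, c, -, hω, ht⟩ := (UB.mem_XS_sr' hi).1 hs
    rw [ht, bcA_mZ]
    by_cases hn : Even n
    · have hn' : n % 2 = 0 := Nat.even_iff.1 hn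
      have h1 : ∀ t : k, tv (mi n) (pos n (i, true)).rev t ∈ CC n k i := fun t =>
        (tv_mem_CC (n - 1 - i) (by omega) (Or.inr ⟨by omega, rfl⟩) (by rw [mi_val]; omega)
          (by rw [Fin.val_rev, val_pos_true]; omega) t).1
      have h2 : ∀ t : k, tv (pos n (i, true)) (mi n) t ∈ CC n k i := fun t =>
        (tv_mem_CC i (by omega) (Or.inl rfl) (val_pos_true i) (by rw [mi_val]; omega) t).1
      refine mul_mem (mul_mem (h1 _) (h2 _)) ?_
      have h3 := tv_comm (F := k) (pos_ne_mid hn (i, true)) (pos_rev_ne_mid hn (i, true)).symm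
        (pos_ne_self_rev (i, true)) (algebraMap F k c) 1
      rw [mul_one] at h3
      rw [← h3, commutatorElement_def]
      exact mul_mem (mul_mem (mul_mem (h2 _) (h1 _)) (inv_mem (h2 _))) (inv_mem (h1 _))
    · have hq : q ≠ 0 := (q_pos hF).ne'
      have hn' : n % 2 = 1 := Nat.not_even_iff.1 hn
      rw [hω hn, map_zero, tv_zero, zero_pow hq, neg_zero, map_zero, tv_zero, mul_one, one_mul]
      exact (tv_mem_CC i (by omega) (Or.inl rfl) (val_pos_true i) (by rw [Fin.val_rev, val_pos_true]; omega) _).1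

theorem phi_Y {i : Fin ((n + 1) / 2)} {s : SJ hF n} (hs : s ∈ U.XS (-sr i)) : phi hF n k s ∈ CC n k i := by
  have hi' := i.2
  rw [phi_val]
  by_cases hi : (i : ℕ) + 1 < (n + 1) / 2
  · obtain ⟨t, ht⟩ := (UB.mem_XS_neg_sr hi).1 hs
    rw [ht, bcA_mX]
    refine mul_mem (tv_mem_CC (n - 1 - i) (by omega) (Or.inr ⟨by omega, rfl⟩) ?_ ?_ _).2
      (tv_mem_CC i (by omega) (Or.inl rfl) ?_ (val_pos_true _) _).2
    · rw [Fin.val_rev, val_pos_true]; show n + 1 - ((i : ℕ) + 1 + 1) = _; omega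
    · rw [val_pos_false]; omega
    · rw [Fin.val_rev, val_pos_false]; omega
  · obtain ⟨ω, c, -, hω, ht⟩ := (UB.mem_XS_neg_sr' hi).1 hs
    rw [ht, bcA_mZ]
    by_cases hn : Even n
    · have hn' : n % 2 = 0 := Nat.even_iff.1 hn
      have h1 : ∀ t : k, tv (mi n) (pos n (i, false)).rev t ∈ CC n k i := fun t =>
        (tv_mem_CC i (by omega) (Or.inl rfl) (by rw [Fin.val_rev, val_pos_false]; omega)
          (by rw [mi_val]; omega) t).2
      have h2 : ∀ t : k, tv (pos n (i, false)) (mi n) t ∈ CC n k i := fun t =>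
        (tv_mem_CC (n - 1 - i) (by omega) (Or.inr ⟨by omega, rfl⟩) (by rw [mi_val]; omega)
          (by rw [val_pos_false]; omega) t).2
      refine mul_mem (mul_mem (h1 _) (h2 _)) ?_
      have h3 := tv_comm (F := k) (pos_ne_mid hn (i, false)) (pos_rev_ne_mid hn (i, false)).symm
        (pos_ne_self_rev (i, false)) (algebraMap F k c) 1
      rw [mul_one] at h3
      rw [← h3, commutatorElement_def]
      exact mul_mem (mul_mem (mul_mem (h2 _) (h1 _)) (inv_mem (h2 _))) (inv_mem (h1 _))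
    · have hq : q ≠ 0 := (q_pos hF).ne'
      have hn' : n % 2 = 1 := Nat.not_even_iff.1 hn
      rw [hω hn, map_zero, tv_zero, zero_pow hq, neg_zero, map_zero, tv_zero, mul_one, one_mul]
      exact (tv_mem_CC i (by omega) (Or.inl rfl) (by rw [Fin.val_rev, val_pos_false]; omega)
        (by rw [val_pos_false]; omega) _).2

/-- **the other leading minors are invariant under the rank one group** -/
theorem DA_sup [Infinite k] {i : Fin ((n + 1) / 2)} {g : SJ hF n} (hg : g ∈ U.XS (sr i) ⊔ U.XS (-sr i)) {j : Fin n}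
    (hj : orb n j ≠ i) (g' : SpecialLinearGroup (Fin (n + 1)) k) : DA j (g' * phi hF n k g) = DA j g' := by
  have h1 : U.XS (sr i) ⊔ U.XS (-sr i) ≤ (CC n k i).comap (phi hF n k) :=
    sup_le (fun s hs => phi_X hs) (fun s hs => phi_Y hs)
  have h2 : phi hF n k g ∈ CC n k i := h1 hg
  exact Cfsg.Agent.H564.TW.Δ_one_of (fdA n k) (i := j) (A := fun j' => orb n j' = i)
    (fun j' hj' h => hj (h ▸ hj')) h2 g'

theorem nS_mem_sup (i : Fin ((n + 1) / 2)) : U.nS i ∈ U.XS (sr i) ⊔ U.XS (-sr i) := by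
  have h1 : ∀ x, (U.XS x).map U.toV = rg U.Fr x := by
    intro x
    unfold UB.XS
    rw [Subgroup.map_comap_eq, inf_eq_right]
    intro g hg
    obtain ⟨s, rfl⟩ := U.mem_IU.1 (U.amb.rg_le _ hg)
    exact ⟨s, rfl⟩
  have h2 := nn_mem_sup (Fr := U.Fr) U.p0 i
  rw [← h1, ← h1, ← Subgroup.map_sup, ← U.toV_nS] at h2
  obtain ⟨s, hs, e⟩ := h2
  rwa [← U.toV_injective e]

/-- the columns of a monomial element -/
theorem mono_col {s : SJ hF n} {π : Fin ((n + 1) / 2) × Bool → Fin ((n + 1) / 2) × Bool}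
    (hs : Mono U.Fr (U.toV s) π) (a : Fin ((n + 1) / 2) × Bool) {x : Fin (n + 1)} (hx : x ≠ pos n (π a)) :
    s.1.1 x (pos n a) = 0 := by
  obtain ⟨l, -, e⟩ := hs a
  have h1 := U.gram'' (π a) x
  rw [if_neg hx] at h1
  rw [U.entry, U.hb, e, herm_smul_left, h1, mul_zero]

theorem mono_nS (i : Fin ((n + 1) / 2)) : Mono U.Fr (U.toV (U.nS i)) (sg i) := by
  rw [U.toV_nS]
  exact mono_nn U.p0_c i

theorem DA_zero_of_col {s : SJ hF n} (j : Fin n) (y : Fin (n + 1)) (hy : (y : ℕ) ≤ j)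
    (h : ∀ x : Fin (n + 1), (x : ℕ) ≤ j → s.1.1 x y = 0) : DA j (phi hF n k s) = 0 := by
  show ld ((j : ℕ) + 1) _ = 0
  rw [ld_eq (le_of_fin j)]
  refine Matrix.det_eq_zero_of_column_eq_zero ⟨y, by omega⟩ fun x => ?_
  have h1 := h (Fin.castLE (le_of_fin j) x) (by show (x : ℕ) ≤ j; omega)
  exact (congrArg (algebraMap F k) h1).trans (map_zero _)

/-- **the leading minors vanish on the Weyl elements** -/
theorem DA_nS_zero {i : Fin ((n + 1) / 2)} {j : Fin n} (hj : orb n j = i) : DA j (phi hF n k (U.nS i)) = 0 := by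
  have hi' := i.2
  have hj' := j.2
  have hjv := congrArg Fin.val hj
  have hjv' : (if (j : ℕ) < (n + 1) / 2 then (j : ℕ) else n - 1 - j) = i := hjv
  by_cases hi : (i : ℕ) + 1 < (n + 1) / 2
  · by_cases hjm : (j : ℕ) < (n + 1) / 2
    · rw [if_pos hjm] at hjv'
      refine DA_zero_of_col j (pos n (i, true)) (by rw [val_pos_true]; omega) fun x hx => ?_
      refine mono_col (mono_nS i) (i, true) fun h => ?_
      have h1 : sg i (i, true) = (⟨i + 1, hi⟩, true) := by
        unfold sg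
        rw [dif_pos hi, if_pos rfl]
      rw [h1] at h
      have h2 := congrArg Fin.val h
      rw [val_pos_true] at h2
      have h3 : (x : ℕ) = i + 1 := h2
      omega
    · rw [if_neg hjm] at hjv'
      refine DA_zero_of_col j (pos n (⟨i + 1, hi⟩, false)) (by rw [val_pos_false]; show n - ((i : ℕ) + 1) ≤ _; omega)
        fun x hx => ?_
      refine mono_col (mono_nS i) (⟨i + 1, hi⟩, false) fun h => ?_
      have h1 : sg i (⟨i + 1, hi⟩, false) = (i, false) := by
        unfold sg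
        rw [dif_pos hi, if_neg (by simp [Fin.ext_iff]), if_pos rfl]
      rw [h1] at h
      have h2 := congrArg Fin.val h
      rw [val_pos_false] at h2
      omega
  · refine DA_zero_of_col j (pos n (i, true)) (by rw [val_pos_true]; split_ifs at hjv' <;> omega) fun x hx => ?_
    refine mono_col (mono_nS i) (i, true) fun h => ?_
    have h1 : sg i (i, true) = (i, false) := by
      unfold sg
      rw [dif_neg hi, if_pos rfl]
      rfl
    rw [h1] at h
    have h2 := congrArg Fin.val h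
    rw [val_pos_false] at h2
    split_ifs at hjv' <;> omega

theorem DA_nS_one [Infinite k] {i : Fin ((n + 1) / 2)} {j : Fin n} (hj : orb n j ≠ i) :
    DA j (phi hF n k (U.nS i)) = 1 := by
  have h := DA_sup (k := k) (nS_mem_sup (U := U) i) hj 1
  rw [one_mul] at h
  rw [h]
  exact ld_one (le_of_fin j)

/-- the values on the Weyl elements -/
theorem DA_nS [Infinite k] (i : Fin ((n + 1) / 2)) (j : Fin n) :
    DA j (phi hF n k (U.nS i)) = if orb n j = i then 0 else 1 := by
  split_ifs with h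
  · exact DA_nS_zero h
  · exact DA_nS_one h

/-! ### the coroot elements -/

theorem orb_eq_iff {i : Fin ((n + 1) / 2)} {j : Fin n} : orb n j = i ↔
    ((j : ℕ) < (n + 1) / 2 ∧ (j : ℕ) = i) ∨ ((n + 1) / 2 ≤ (j : ℕ) ∧ (j : ℕ) = n - 1 - i) := by
  have hi' := i.2
  have hj' := j.2
  rw [Fin.ext_iff]
  show (if (j : ℕ) < (n + 1) / 2 then (j : ℕ) else n - 1 - j) = i ↔ _
  split_ifs <;> omega

/-- the coroot elements of `SJ hF n` as products of coroot elements of `SL_{n+1}(k)` -/
theorem phi_hh (j : Fin ((n + 1) / 2)) (b : Cs (F := F) q n j) : phi hF n k (hh hF n j b) =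
    hA (⟨j, by omega⟩ : Fin n) (chi q n k j b) *
      (if 2 * (j : ℕ) + 2 = n + 1 then 1 else hA (⟨n - 1 - j, by omega⟩ : Fin n) (chi q n k j b ^ q)) := by
  have hj := j.2
  apply Subtype.ext
  have e1 : (phi hF n k (hh hF n j b)).1 = diagonal fun x => algebraMap F k ((dj q n j b.1 x : Fˣ) : F) := by
    show ((hh hF n j b).1.1).map (algebraMap F k) = _
    rw [hh_val]
    exact Matrix.diagonal_map (map_zero _)
  have e2 : ∀ (i : Fin n) (c : kˣ), (hA i c : SpecialLinearGroup (Fin (n + 1)) k).1 = diagonal fun x : Fin (n + 1) =>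
      (((if (x : ℕ) = i then c else 1) * (if (x : ℕ) = (i : ℕ) + 1 then c⁻¹ else 1) : kˣ) : k) := by
    intro i c
    show diagonal _ = diagonal _
    congr 1
    funext x
    have h1 : (x = i.castSucc) ↔ (x : ℕ) = i := by rw [Fin.ext_iff]; rfl
    have h2 : (x = i.succ) ↔ (x : ℕ) = (i : ℕ) + 1 := by rw [Fin.ext_iff]; rfl
    simp only [h1, h2]
    by_cases h3 : (x : ℕ) = i
    · rw [if_pos h3, if_pos h3, if_neg (by omega), mul_one]
    · rw [if_neg h3, if_neg h3, one_mul]
      split_ifs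
      · rw [Units.val_inv_eq_inv_val]
      · rw [Units.val_one]
  have e3 : ∀ (P : Prop) [Decidable P] (u : Fˣ),
      algebraMap F k ((if P then u else 1 : Fˣ) : F) = ((if P then Units.map (algebraMap F k).toMonoidHom u else 1 : kˣ) : k) := by
    intro P _ u
    split_ifs
    · rfl
    · rw [Units.val_one, map_one, Units.val_one]
  rw [e1]
  by_cases h : 2 * (j : ℕ) + 2 = n + 1
  · rw [if_pos h, mul_one, e2]
    congr 1
    funext x
    unfold dj
    rw [if_pos h, mul_one, Units.val_mul, map_mul, e3, e3, Units.val_mul, map_inv]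
    rfl
  · rw [if_neg h]
    show _ = (hA _ _).1 * (hA _ _).1
    rw [e2, e2, diagonal_mul_diagonal]
    congr 1
    funext x
    unfold dj
    rw [if_neg h, Units.val_mul, Units.val_mul, Units.val_mul, map_mul, map_mul, map_mul, e3, e3, e3, e3, Units.val_mul,
      Units.val_mul, map_inv, map_inv, map_pow]
    have c1 : ((x : ℕ) = n - 1 - j) ↔ ((x : ℕ) + j + 1 = n) := by omega
    have c2 : ((x : ℕ) = n - 1 - j + 1) ↔ ((x : ℕ) + j = n) := by omega
    have c1' : ((x : ℕ) = ((⟨n - 1 - j, by omega⟩ : Fin n) : ℕ)) ↔ ((x : ℕ) + j + 1 = n) := c1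
    have c2' : ((x : ℕ) = ((⟨n - 1 - j, by omega⟩ : Fin n) : ℕ) + 1) ↔ ((x : ℕ) + j = n) := c2
    simp only [c1', c2']
    show _ = _ * _ * (_ * _)
    rw [mul_comm (((if (x : ℕ) + (j : ℕ) = n then _ else _ : kˣ) : k))]
    rfl

/-- **the values on the coroot elements** -/
theorem DA_hh (i : Fin n) (j : Fin ((n + 1) / 2)) (b : Cs (F := F) q n j) : DA i (phi hF n k (hh hF n j b)) =
    if orb n i = j then ((chi q n k j b : kˣ) : k) ^ ee q n i else 1 := by
  have hj := j.2
  have hi := i.2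
  have h1 : ((⟨j, by omega⟩ : Fin n) = i) ↔ (j : ℕ) = i := Fin.ext_iff
  rw [phi_hh]
  by_cases h : 2 * (j : ℕ) + 2 = n + 1
  · rw [if_pos h, mul_one, DA_hA]
    by_cases ho : orb n i = j
    · have ho' := orb_eq_iff.1 ho
      rw [if_pos ho, if_pos (Fin.ext (by show (i : ℕ) = j; omega)), ee, if_pos (by omega), pow_one]
    · rw [if_neg ho, if_neg (fun h' => ho (orb_eq_iff.2 (Or.inl ⟨by
        have := congrArg Fin.val h'; have h2 : (i : ℕ) = j := this; omega, congrArg Fin.val h'⟩)))]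
  · have hm : ∀ (l : Fin n) (c : kˣ), hA l c ∈ T (Fin (n + 1)) k := fun l c => diag_mem_T _ _
    rw [if_neg h, DA_mul_T i (hm _ _), DA_hA, DA_hA]
    by_cases ho : orb n i = j
    · rw [if_pos ho]
      rcases orb_eq_iff.1 ho with ⟨h2, h3⟩ | ⟨h2, h3⟩
      · rw [if_neg (fun h' => by have := congrArg Fin.val h'; have h4 : (i : ℕ) = n - 1 - j := this; omega),
          if_pos (Fin.ext h3), one_mul, ee, if_pos h2, pow_one]
      · rw [if_pos (Fin.ext h3), if_neg (fun h' => by
          have := congrArg Fin.val h'; have h4 : (i : ℕ) = j := this; omega), mul_one, ee, if_neg (by omega),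
          Units.val_pow_eq_pow_val]
    · have ho' := fun h => ho (orb_eq_iff.2 h)
      rw [if_neg ho, if_neg, if_neg, mul_one]
      · intro h'
        have := congrArg Fin.val h'
        have h4 : (i : ℕ) = j := this
        exact ho' (Or.inl ⟨by omega, h4⟩)
      · intro h'
        have := congrArg Fin.val h'
        have h4 : (i : ℕ) = n - 1 - j := this
        exact ho' (Or.inr ⟨by omega, h4⟩)

end

end Cfsg.Agent.H356.TU
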