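import Cfsg.Agent.H356.TA.Fix
import Cfsg.Agent.H564.TWP.Main
import Cfsg.Agent.LieClassical.HermBasic

/-!
# The unitary group of the antidiagonal hermitian form (`|F| = q ^ 2`)

* `SJ hF n ≤ SL_{n+1}(F)` : the matrices `M` with `Mᵀ J M^σ = J`, `J` the antidiagonal matrix;
* `Cs hF n j ≤ Fˣ`, `hh hF n j : Cs hF n j →* SJ hF n` : the coroot elements, `j < (n + 1) / 2`;
* `orb`, `ee` : the orbits of the simple roots and the exponents; `chi`.
-/

set_option autoImplicit false
set_option linter.unusedSectionVars false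
set_option linter.unusedSimpArgs false

namespace Cfsg.Agent.H356.TU

open Matrix Cfsg.Agent.H45.UniE Cfsg.Agent.H356.TA Cfsg.Agent.LieClassical.HermBasic

/-- the orbit of the simple root `i` -/
def orb (n : ℕ) (i : Fin n) : Fin ((n + 1) / 2) :=
  ⟨if (i : ℕ) < (n + 1) / 2 then i else n - 1 - i, by split_ifs <;> omega⟩

/-- the exponents -/
def ee (q n : ℕ) (i : Fin n) : ℕ := if (i : ℕ) < (n + 1) / 2 then 1 else q

section

variable {F : Type*} [Field F] {n q : ℕ}

/-- the antidiagonal matrix -/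
def Jm (F : Type*) [Field F] (n : ℕ) : Matrix (Fin (n + 1)) (Fin (n + 1)) F :=
  Matrix.of fun x y => if y = x.rev then 1 else 0

theorem Jm_mul (A : Matrix (Fin (n + 1)) (Fin (n + 1)) F) (x y : Fin (n + 1)) : (Jm F n * A) x y = A x.rev y := by
  rw [Matrix.mul_apply, Finset.sum_eq_single x.rev]
  · simp [Jm]
  · intro z _ hz
    simp [Jm, hz]
  · intro h; exact absurd (Finset.mem_univ _) h

theorem mul_Jm (A : Matrix (Fin (n + 1)) (Fin (n + 1)) F) (x y : Fin (n + 1)) : (A * Jm F n) x y = A x y.rev := by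
  rw [Matrix.mul_apply, Finset.sum_eq_single y.rev]
  · simp [Jm]
  · intro z _ hz
    have : y ≠ z.rev := fun h => hz (by rw [h, Fin.rev_rev])
    simp [Jm, this]
  · intro h; exact absurd (Finset.mem_univ _) h

theorem Jm_Jm : Jm F n * Jm F n = 1 := by
  ext x y
  rw [Jm_mul, Matrix.one_apply]
  show (if y = x.rev.rev then (1 : F) else 0) = _
  rw [Fin.rev_rev]
  by_cases h : x = y
  · rw [if_pos h, if_pos h.symm]
  · rw [if_neg h, if_neg (Ne.symm h)]

theorem Jm_transpose : (Jm F n)ᵀ = Jm F n := by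
  ext x y
  show (if x = y.rev then (1 : F) else 0) = if y = x.rev then 1 else 0
  by_cases h : x = y.rev
  · rw [if_pos h, if_pos (by rw [h, Fin.rev_rev])]
  · rw [if_neg h, if_neg (fun h' => h (by rw [h', Fin.rev_rev]))]

end

section

variable {F : Type*} [Field F] [Fintype F] {q : ℕ} (hF : Fintype.card F = q ^ 2) (n : ℕ)

theorem map_Jm : (Jm F n).map (conj hF) = Jm F n := by
  ext x y
  show conj hF (if y = x.rev then 1 else 0) = if y = x.rev then 1 else 0
  split_ifs
  · exact map_one _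
  · exact map_zero _

theorem map_mul_conj (A B : Matrix (Fin (n + 1)) (Fin (n + 1)) F) :
    (A * B).map (conj hF) = A.map (conj hF) * B.map (conj hF) := by
  ext x y
  rw [Matrix.map_apply, Matrix.mul_apply, Matrix.mul_apply, map_sum]
  exact Finset.sum_congr rfl fun z _ => by rw [map_mul]; rfl

theorem map_one_conj : (1 : Matrix (Fin (n + 1)) (Fin (n + 1)) F).map (conj hF) = 1 :=
  Matrix.map_one _ (map_zero _) (map_one _)

/-- **the unitary group of the antidiagonal form** -/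
def SJ : Subgroup (SpecialLinearGroup (Fin (n + 1)) F) where
  carrier := {M | M.1ᵀ * Jm F n * M.1.map (conj hF) = Jm F n}
  one_mem' := by
    show (1 : Matrix _ _ F)ᵀ * Jm F n * (1 : Matrix _ _ F).map (conj hF) = Jm F n
    rw [map_one_conj, Matrix.transpose_one, Matrix.one_mul, Matrix.mul_one]
  mul_mem' := by
    intro M N hM hN
    have hM' : M.1ᵀ * Jm F n * M.1.map (conj hF) = Jm F n := hM
    have hN' : N.1ᵀ * Jm F n * N.1.map (conj hF) = Jm F n := hN
    show (M.1 * N.1)ᵀ * Jm F n * (M.1 * N.1).map (conj hF) = Jm F n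
    rw [map_mul_conj, Matrix.transpose_mul]
    calc N.1ᵀ * M.1ᵀ * Jm F n * (M.1.map (conj hF) * N.1.map (conj hF)) =
        N.1ᵀ * (M.1ᵀ * Jm F n * M.1.map (conj hF)) * N.1.map (conj hF) := by simp only [Matrix.mul_assoc]
      _ = Jm F n := by rw [hM', hN']
  inv_mem' := by
    intro M hM
    have hM' : M.1ᵀ * Jm F n * M.1.map (conj hF) = Jm F n := hM
    show (M⁻¹).1ᵀ * Jm F n * (M⁻¹).1.map (conj hF) = Jm F n
    have h1 : M.1 * (M⁻¹).1 = 1 := by
      have := congrArg Subtype.val (mul_inv_cancel M)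
      exact this
    have h2 : (M⁻¹).1ᵀ * M.1ᵀ = 1 := by rw [← Matrix.transpose_mul, h1, Matrix.transpose_one]
    have h3 : M.1.map (conj hF) * (M⁻¹).1.map (conj hF) = 1 := by rw [← map_mul_conj, h1, map_one_conj]
    calc (M⁻¹).1ᵀ * Jm F n * (M⁻¹).1.map (conj hF) =
        (M⁻¹).1ᵀ * (M.1ᵀ * Jm F n * M.1.map (conj hF)) * (M⁻¹).1.map (conj hF) := by rw [hM']
      _ = ((M⁻¹).1ᵀ * M.1ᵀ) * Jm F n * (M.1.map (conj hF) * (M⁻¹).1.map (conj hF)) := by simp only [Matrix.mul_assoc]
      _ = Jm F n := by rw [h2, h3, Matrix.one_mul, Matrix.mul_one]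

variable {hF n}

theorem mem_SJ {M : SpecialLinearGroup (Fin (n + 1)) F} :
    M ∈ SJ hF n ↔ M.1ᵀ * Jm F n * M.1.map (conj hF) = Jm F n := Iff.rfl

theorem mem_SJ' {M : SpecialLinearGroup (Fin (n + 1)) F} : M ∈ SJ hF n ↔
    ∀ x y, ∑ z, M.1 z x * (M.1 z.rev y) ^ q = if y = x.rev then 1 else 0 := by
  rw [mem_SJ]
  have key : ∀ x y, (M.1ᵀ * Jm F n * M.1.map (conj hF)) x y = ∑ z, M.1 z x * (M.1 z.rev y) ^ q := by
    intro x y
    rw [Matrix.mul_apply, ← Equiv.sum_comp Fin.revPerm]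
    refine Finset.sum_congr rfl fun z _ => ?_
    rw [Fin.revPerm_apply, mul_Jm, Fin.rev_rev]
    rfl
  constructor
  · intro h x y
    rw [← key, h]
    rfl
  · intro h
    ext x y
    rw [key, h]
    rfl

/-- the transpose -/
theorem transpose_mem {M : SpecialLinearGroup (Fin (n + 1)) F} (hM : M ∈ SJ hF n) : M.transpose ∈ SJ hF n := by
  rw [mem_SJ] at hM ⊢
  show M.1ᵀᵀ * Jm F n * M.1ᵀ.map (conj hF) = Jm F n
  rw [Matrix.transpose_transpose]
  have h1 : M.1 * (M⁻¹).1 = 1 := congrArg Subtype.val (mul_inv_cancel M)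
  have h1' : (M⁻¹).1 * M.1 = 1 := congrArg Subtype.val (inv_mul_cancel M)
  have h2 : (M⁻¹).1ᵀ * M.1ᵀ = 1 := by rw [← Matrix.transpose_mul, h1, Matrix.transpose_one]
  -- `M^σ = J M^{-T} J`
  have h3 : M.1.map (conj hF) = Jm F n * (M⁻¹).1ᵀ * Jm F n := by
    calc M.1.map (conj hF) = Jm F n * (((M⁻¹).1ᵀ * M.1ᵀ) * (Jm F n * M.1.map (conj hF))) := by
          rw [h2, Matrix.one_mul, ← Matrix.mul_assoc, Jm_Jm, Matrix.one_mul]
      _ = Jm F n * (M⁻¹).1ᵀ * (M.1ᵀ * Jm F n * M.1.map (conj hF)) := by simp only [Matrix.mul_assoc]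
      _ = _ := by rw [hM]
  have h4 : M.1ᵀ.map (conj hF) = Jm F n * (M⁻¹).1 * Jm F n := by
    rw [Matrix.transpose_map, h3, Matrix.transpose_mul, Matrix.transpose_mul, Matrix.transpose_transpose, Jm_transpose,
      Matrix.mul_assoc]
  rw [h4]
  calc M.1 * Jm F n * (Jm F n * (M⁻¹).1 * Jm F n) = M.1 * (Jm F n * Jm F n) * ((M⁻¹).1 * Jm F n) := by
        simp only [Matrix.mul_assoc]
    _ = M.1 * (M⁻¹).1 * Jm F n := by rw [Jm_Jm, Matrix.mul_one, Matrix.mul_assoc]
    _ = Jm F n := by rw [h1, Matrix.one_mul]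

/-- diagonal matrices -/
theorem dl_mem_SJ {c : Fin (n + 1) → Fˣ} (h : ∏ i, c i = 1) (hc : ∀ x, c x * (c x.rev) ^ q = 1) :
    dl c h ∈ SJ hF n := by
  rw [mem_SJ']
  intro x y
  show ∑ z, (diagonal fun i => (c i : F)) z x * ((diagonal fun i => (c i : F)) z.rev y) ^ q = _
  rw [Finset.sum_eq_single x]
  · rw [diagonal_apply_eq]
    by_cases hy : y = x.rev
    · rw [if_pos hy, hy, diagonal_apply_eq]
      have := congrArg (Units.val) (hc x)
      rw [Units.val_mul, Units.val_pow_eq_pow_val, Units.val_one] at this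
      exact this
    · rw [if_neg hy, diagonal_apply_ne _ (Ne.symm hy), zero_pow_q hF, mul_zero]
  · intro z _ hz
    rw [diagonal_apply_ne _ hz, zero_mul]
  · intro h; exact absurd (Finset.mem_univ _) h

end

/-! ### the coroot elements -/

section

variable {F : Type*} [Field F] [Fintype F] {q : ℕ} (hF : Fintype.card F = q ^ 2) (n : ℕ)

/-- the diagonal of the coroot element: `b` at `j`, `b⁻¹` at `j + 1`, and, if `2 j + 2 ≠ n + 1`, `(b ^ q)⁻¹` at `n - j`,
`b ^ q` at `n - 1 - j` -/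
def dj {F : Type*} [Field F] (q n j : ℕ) (b : Fˣ) (x : Fin (n + 1)) : Fˣ :=
  (if (x : ℕ) = j then b else 1) * (if (x : ℕ) = j + 1 then b⁻¹ else 1) *
    (if 2 * j + 2 = n + 1 then 1 else (if (x : ℕ) + j = n then (b ^ q)⁻¹ else 1) * (if (x : ℕ) + j + 1 = n then b ^ q else 1))

theorem dj_mul {F : Type*} [Field F] (q n j : ℕ) (b c : Fˣ) (x : Fin (n + 1)) :
    dj q n j (b * c) x = dj q n j b x * dj q n j c x := by
  unfold dj
  have e1 : ∀ (P : Prop) [Decidable P] (u v : Fˣ), (if P then u * v else 1) = (if P then u else 1) * (if P then v else 1) := by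
    intro P _ u v
    split_ifs
    · rfl
    · rw [mul_one]
  rw [_root_.mul_inv, mul_pow, _root_.mul_inv, e1, e1]
  by_cases h : 2 * j + 2 = n + 1
  · rw [if_pos h, if_pos h, if_pos h]
    simp only [e1, mul_one]
    rw [mul_mul_mul_comm]
  · rw [if_neg h, if_neg h, if_neg h]
    simp only [e1]
    rw [mul_mul_mul_comm (if (x : ℕ) = j then b else 1), mul_mul_mul_comm (if (x : ℕ) + j = n then (b ^ q)⁻¹ else 1),
      mul_mul_mul_comm]

theorem dj_one {F : Type*} [Field F] (q n j : ℕ) (x : Fin (n + 1)) : dj q n j (1 : Fˣ) x = 1 := by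
  unfold dj
  simp

theorem prod_ite_one {M : Type*} [CommMonoid M] {P : Fin (n + 1) → Prop} [DecidablePred P] (a : Fin (n + 1))
    (hP : ∀ x, P x ↔ x = a) (c : M) : ∏ x, (if P x then c else 1) = c := by
  rw [Finset.prod_eq_single a]
  · rw [if_pos ((hP a).2 rfl)]
  · intro x _ hx
    rw [if_neg (fun h => hx ((hP x).1 h))]
  · intro h; exact absurd (Finset.mem_univ _) h

theorem prod_dj {F : Type*} [Field F] (q n j : ℕ) (hj : j < (n + 1) / 2) (b : Fˣ) : ∏ x, dj q n j b x = 1 := by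
  unfold dj
  rw [Finset.prod_mul_distrib, Finset.prod_mul_distrib,
    prod_ite_one n (⟨j, by omega⟩ : Fin (n + 1)) (fun x => by rw [Fin.ext_iff]) b,
    prod_ite_one n (⟨j + 1, by omega⟩ : Fin (n + 1)) (fun x => by rw [Fin.ext_iff]) b⁻¹, mul_inv_cancel, one_mul]
  by_cases h : 2 * j + 2 = n + 1
  · simp [h]
  · simp only [if_neg h]
    rw [Finset.prod_mul_distrib,
      prod_ite_one n (⟨n - j, by omega⟩ : Fin (n + 1)) (fun x => by rw [Fin.ext_iff]; show _ ↔ (x : ℕ) = n - j; omega) (b ^ q)⁻¹,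
      prod_ite_one n (⟨n - 1 - j, by omega⟩ : Fin (n + 1)) (fun x => by
        rw [Fin.ext_iff]; show _ ↔ (x : ℕ) = n - 1 - j; omega) (b ^ q), inv_mul_cancel]

/-- the parameters of the coroot elements: `Fˣ`, or the elements with `b ^ q = b` for the middle node -/
def Cs {F : Type*} [Field F] (q n j : ℕ) : Subgroup Fˣ where
  carrier := {b | 2 * j + 2 = n + 1 → b ^ q = b}
  one_mem' := fun _ => one_pow _
  mul_mem' := fun ha hb h => by rw [mul_pow, ha h, hb h]
  inv_mem' := fun ha h => by rw [inv_pow, ha h]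

include hF in
theorem units_pow_q (b : Fˣ) : (b ^ q) ^ q = b := by
  apply Units.ext
  rw [Units.val_pow_eq_pow_val, Units.val_pow_eq_pow_val]
  exact pow_q_pow_q hF _

include hF in
theorem dj_unitary {j : ℕ} (hj : j < (n + 1) / 2) {b : Fˣ} (hb : b ∈ Cs (F := F) q n j) (x : Fin (n + 1)) :
    dj q n j b x * (dj q n j b x.rev) ^ q = 1 := by
  unfold dj
  have hr : (x.rev : ℕ) = n - x := by rw [Fin.val_rev]; omega
  rw [hr]
  have hx : (x : ℕ) ≤ n := by omega
  have e1 : ∀ (P : Prop) [Decidable P] (u : Fˣ), (if P then u else 1) ^ q = (if P then u ^ q else 1) := by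
    intro P _ u
    split_ifs
    · rfl
    · rw [one_pow]
  by_cases h : 2 * j + 2 = n + 1
  · have hb' : b ^ q = b := hb h
    rw [if_pos h, if_pos h, mul_one, mul_one, mul_pow, e1, e1, inv_pow, hb']
    by_cases h1 : (x : ℕ) = j
    · rw [if_pos h1, if_neg (by omega), if_neg (by omega), if_pos (by omega), mul_one, one_mul, mul_inv_cancel]
    · by_cases h2 : (x : ℕ) = j + 1
      · rw [if_neg h1, if_pos h2, if_pos (by omega), if_neg (by omega), mul_one, one_mul, inv_mul_cancel]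
      · rw [if_neg h1, if_neg h2, if_neg (by omega), if_neg (by omega)]
        simp
  · rw [if_neg h, if_neg h]
    simp only [mul_pow, e1, inv_pow]
    rw [units_pow_q hF]
    have c1 : (n - (x : ℕ) = j) ↔ ((x : ℕ) + j = n) := by omega
    have c2 : (n - (x : ℕ) = j + 1) ↔ ((x : ℕ) + j + 1 = n) := by omega
    have c3 : (n - (x : ℕ) + j = n) ↔ ((x : ℕ) = j) := by omega
    have c4 : (n - (x : ℕ) + j + 1 = n) ↔ ((x : ℕ) = j + 1) := by omega
    simp only [c1, c2, c3, c4]
    have e2 : ∀ (P : Prop) [Decidable P] (u : Fˣ), (if P then u⁻¹ else 1) = (if P then u else 1)⁻¹ := by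
      intro P _ u
      split_ifs
      · rfl
      · rw [inv_one]
    simp only [e2]
    generalize (if (x : ℕ) = j then b else 1) = A
    generalize (if (x : ℕ) = j + 1 then b else 1) = B
    generalize (if (x : ℕ) + j = n then b ^ q else 1) = C
    generalize (if (x : ℕ) + j + 1 = n then b ^ q else 1) = D
    calc A * B⁻¹ * (C⁻¹ * D) * (C * D⁻¹ * (A⁻¹ * B)) = (A * A⁻¹) * (B⁻¹ * B) * (C⁻¹ * C) * (D * D⁻¹) := by
          simp only [mul_assoc, mul_comm, mul_left_comm]
      _ = 1 := by simp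

/-- **the coroot elements** -/
def hh (j : Fin ((n + 1) / 2)) : Cs (F := F) q n j →* SJ hF n where
  toFun b := ⟨dl (dj q n j b.1) (prod_dj q n j j.2 b.1), dl_mem_SJ _ (dj_unitary hF n j.2 b.2)⟩
  map_one' := by
    apply Subtype.ext
    apply Subtype.ext
    show diagonal _ = (1 : Matrix _ _ F)
    rw [← Matrix.diagonal_one]
    congr 1
    funext x
    show ((dj q n j (1 : Fˣ) x : Fˣ) : F) = 1
    rw [dj_one, Units.val_one]
  map_mul' b c := by
    apply Subtype.ext
    apply Subtype.ext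
    show diagonal _ = diagonal _ * diagonal _
    rw [diagonal_mul_diagonal]
    congr 1
    funext x
    show ((dj q n j (b.1 * c.1) x : Fˣ) : F) = _
    rw [dj_mul, Units.val_mul]

theorem hh_val (j : Fin ((n + 1) / 2)) (b : Cs (F := F) q n j) :
    ((hh hF n j b).1 : SpecialLinearGroup (Fin (n + 1)) F).1 = diagonal fun x => ((dj q n j b.1 x : Fˣ) : F) := rfl

/-- the characters -/
noncomputable def chi {F : Type*} [Field F] (q n : ℕ) (k : Type*) [Field k] [Algebra F k] (j : Fin ((n + 1) / 2)) :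
    Cs (F := F) q n j →* kˣ :=
  (Units.map (algebraMap F k).toMonoidHom).comp (Cs (F := F) q n j).subtype

theorem chi_inj {F : Type*} [Field F] (q n : ℕ) (k : Type*) [Field k] [Algebra F k] (j : Fin ((n + 1) / 2)) :
    Function.Injective (chi (F := F) q n k j) := by
  intro a b h
  apply Subtype.ext
  apply Units.ext
  exact (algebraMap F k).injective (congrArg Units.val h)

/-- the homomorphism into `SL_{n+1}(k)` -/
noncomputable def phi {F : Type*} [Field F] [Fintype F] {q : ℕ} (hF : Fintype.card F = q ^ 2) (n : ℕ) (k : Type*) [Field k]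
    [Algebra F k] : SJ hF n →* SpecialLinearGroup (Fin (n + 1)) k :=
  (bcA n F k).comp (SJ hF n).subtype

end

end Cfsg.Agent.H356.TU
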