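import Cfsg.Agent.H356.TU.Sys
import Cfsg.Agent.H379.CV.SUEng
import Cfsg.Agent.H379.CV.SUSg

/-!
# Own characteristic of `SU_{n+1}(q)`: assembly
-/

set_option autoImplicit false
set_option linter.unusedSectionVars false
set_option linter.unusedSimpArgs false

namespace Cfsg.Agent.H356.TU

open Matrix Cfsg Cfsg.Agent.H356.TA Cfsg.Agent.LieClassical.HermBasic Cfsg.Agent.H45.UniE
open Cfsg.Agent.Nodes.RGDTypeA Cfsg.Agent.TitsThree.KSideA Cfsg.Agent.Tits.Roots
open Cfsg.Agent.H379.SUD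

universe u v

variable {F : Type v} [Field F] [Fintype F] {q n : ℕ}

/-- **the class form of `SU_{n+1}(q)`**, from the covering of the positive roots -/
theorem clsSU_aux {p : ℕ} [Fact p.Prime] [CharP F p] (hF : Fintype.card F = q ^ 2) (hn : 2 ≤ n) {f : ℕ} (hf : q = p ^ f)
    {D : FDat (Fin n) (Pos n) (AlgebraicClosure F) (SpecialLinearGroup (Fin (n + 1)) (AlgebraicClosure F))}
    (hΔ : ∀ i g, D.Δ i g = DA i g) (hU : (fdA n (AlgebraicClosure F)).U ≤ D.U)
    (hUm : (fdA n (AlgebraicClosure F)).Um ≤ D.Um) (hT : T (Fin (n + 1)) (AlgebraicClosure F) ≤ D.T)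
    (hτ : ∀ g, D.τ g = g.transpose)
    (hcov : ∀ P : Subgroup (SpecialLinearGroup (Fin (n + 1)) (AlgebraicClosure F)),
      (∀ (a b : Fin ((n + 1) / 2) × Bool) (t : F), a.1 ≠ b.1 → pos n a < (pos n b).rev →
        bcA n F (AlgebraicClosure F) (mX q a b t) ∈ P) →
      (∀ (a : Fin ((n + 1) / 2) × Bool) (ω c : F), pos n a < (pos n a).rev → c + c ^ q = -(ω * ω ^ q) →
        (¬ Even n → ω = 0) → bcA n F (AlgebraicClosure F) (mZ q a ω c) ∈ P) →
      ∀ b, Cfsg.Agent.H564.TWP.Cov D.toGDat F P q b) :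
    ClsSU.{u} p (n + 1) q f F := by
  obtain ⟨U⟩ := exists_UB hF n
  have hM := map_sysU U (p := p) hn hΔ hU hUm hT hτ
  have : CharP (AlgebraicClosure F) p := charP_of_injective_algebraMap (algebraMap F (AlgebraicClosure F)).injective p
  refine clsSU_of (E := sysU U (p := p) hn) (D := D) (o := orb n) (fun i => rfl) hΔ rfl ?_ (fun W => wt_sysU U hn) hf
  exact hyp_sysU U hn hΔ hU hUm hT hτ (hcov _ (fun a b t hab h => phi_mX U hn a b t hab h)
    (fun a ω c h hc hω => phi_mZ U hn a ω c h hc hω))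
    (fun a j b hb => sg0 (p := p) (U := U) (fun _ => rfl) (fun _ => rfl) hΔ hM a j b hb)
    (fun a ha => lam (fun i => rfl) hF a ha)

end Cfsg.Agent.H356.TU
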