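import Cfsg.Agent.H356.TU.Def
import Cfsg.Agent.Mrg.Nodes.RGDAllP

/-!
# Witt bases and the isomorphism `SU (n + 1) F q ≃* SJ hF n`
-/

set_option autoImplicit false
set_option linter.unusedSectionVars false
set_option linter.unusedSimpArgs false

namespace Cfsg.Agent.H356.TU

open Matrix Cfsg Cfsg.Agent.H356.TA Cfsg.Agent.LieClassical.HermBasic Cfsg.Agent.LieClassical.HermSiegel
open Cfsg.Agent.TitsThree Cfsg.Agent.TitsThree.Siegel Cfsg.Agent.TitsThree.SiegelGen
  Cfsg.Agent.TitsThree.WittFrame Cfsg.Agent.TitsThree.WBridge Cfsg.Agent.TitsThree.WittWeyl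
  Cfsg.Agent.TitsThree.FrameCN Cfsg.Agent.TitsThree.KSideU Cfsg.Agent.TitsThree.KSideUDesc

section

variable {n : ℕ}

/-- the position of a signed index -/
def pos (n : ℕ) (a : Fin ((n + 1) / 2) × Bool) : Fin (n + 1) :=
  if a.2 then ⟨a.1, by omega⟩ else Fin.rev ⟨a.1, by omega⟩

theorem pos_true (i : Fin ((n + 1) / 2)) : pos n (i, true) = ⟨i, by omega⟩ := rfl
theorem pos_false (i : Fin ((n + 1) / 2)) : pos n (i, false) = Fin.rev ⟨i, by omega⟩ := rfl

theorem pos_neg (a : Fin ((n + 1) / 2) × Bool) : pos n (neg a) = (pos n a).rev := by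
  obtain ⟨i, s⟩ := a
  cases s
  · show (⟨i, _⟩ : Fin (n + 1)) = Fin.rev (Fin.rev _)
    rw [Fin.rev_rev]
  · rfl

theorem val_pos_true (i : Fin ((n + 1) / 2)) : ((pos n (i, true) : Fin (n + 1)) : ℕ) = i := rfl

theorem val_pos_false (i : Fin ((n + 1) / 2)) : ((pos n (i, false) : Fin (n + 1)) : ℕ) = n - i := by
  rw [pos_false, Fin.val_rev]
  show n + 1 - (i + 1) = n - i
  omega

theorem pos_inj {a b : Fin ((n + 1) / 2) × Bool} : pos n a = pos n b ↔ a = b := by
  refine ⟨fun h => ?_, fun h => by rw [h]⟩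
  obtain ⟨i, s⟩ := a
  obtain ⟨j, t⟩ := b
  have h' := congrArg Fin.val h
  cases s <;> cases t
  · rw [val_pos_false, val_pos_false] at h'
    have : i = j := Fin.ext (by omega)
    rw [this]
  · rw [val_pos_false, val_pos_true] at h'
    omega
  · rw [val_pos_true, val_pos_false] at h'
    omega
  · rw [val_pos_true, val_pos_true] at h'
    have : i = j := Fin.ext h'
    rw [this]

theorem pos_ne_rev (a b : Fin ((n + 1) / 2) × Bool) (h : a.1 ≠ b.1) : pos n a ≠ (pos n b).rev := by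
  rw [← pos_neg, Ne, pos_inj]
  intro h'
  apply h
  rw [h']
  rfl

theorem pos_ne_self_rev (a : Fin ((n + 1) / 2) × Bool) : pos n a ≠ (pos n a).rev := by
  rw [← pos_neg, Ne, pos_inj]
  intro h'
  have := congrArg Prod.snd h'
  rw [neg_snd] at this
  cases h1 : a.2 <;> simp [h1] at this

theorem pos_or (x : Fin (n + 1)) : (∃ a, x = pos n a) ∨ x = x.rev := by
  by_cases h : (x : ℕ) < (n + 1) / 2
  · exact Or.inl ⟨(⟨x, h⟩, true), rfl⟩
  · by_cases h' : (x.rev : ℕ) < (n + 1) / 2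
    · refine Or.inl ⟨(⟨x.rev, h'⟩, false), ?_⟩
      rw [pos_false]
      have : (⟨(x.rev : ℕ), by omega⟩ : Fin (n + 1)) = x.rev := rfl
      rw [this, Fin.rev_rev]
    · right
      apply Fin.ext
      rw [Fin.val_rev] at h' ⊢
      omega

end

section

variable {F : Type*} [Field F] [Fintype F] {q : ℕ} (hF : Fintype.card F = q ^ 2) (n : ℕ)

/-- a Witt basis -/
structure UB where
  W : WFrame (PU hF (n + 1)) ((n + 1) / 2)
  bv : Fin (n + 1) → (Fin (n + 1) → F)
  gram : ∀ x y, hermForm (n + 1) F q (bv x) (bv y) = if y = x.rev then 1 else 0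
  hb : ∀ a, bv (pos n a) = (toFrame W).b a
  mid : ∀ x, x = x.rev → bv x ∈ W.V0

theorem exists_UB : Nonempty (UB hF n) := by
  classical
  set m := (n + 1) / 2 with hm
  -- the middle vector
  obtain ⟨W, d, hd⟩ : ∃ (W : WFrame (PU hF (n + 1)) m) (d : Fin (n + 1) → F),
      (n + 1 = 2 * m + 1 → hermForm (n + 1) F q d d = 1 ∧ d ∈ W.V0) ∧ d ∈ W.V0 := by
    rcases Nat.even_or_odd' (n + 1) with ⟨k, hk | hk⟩
    · obtain ⟨W, -⟩ := exists_wframe_even hF (m := m) (N := n + 1) (by omega)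
      exact ⟨W, 0, fun h => by omega, W.V0.zero_mem⟩
    · obtain ⟨W, d, hd, hV⟩ := exists_wframe_odd hF (m := m) (N := n + 1) (by omega)
      have : d ∈ W.V0 := by rw [hV]; exact Submodule.mem_span_singleton_self d
      exact ⟨W, d, fun _ => ⟨hd, this⟩, this⟩
  obtain ⟨hd1, hdV⟩ := hd
  let bv : Fin (n + 1) → (Fin (n + 1) → F) := fun x =>
    if h : (x : ℕ) < m then W.e ⟨x, h⟩ else if h' : (x.rev : ℕ) < m then W.f ⟨x.rev, h'⟩ else d
  have hbe : ∀ (x : Fin (n + 1)) (h : (x : ℕ) < m), bv x = W.e ⟨x, h⟩ := fun x h => dif_pos h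
  have hbf : ∀ (x : Fin (n + 1)) (h' : (x.rev : ℕ) < m), bv x = W.f ⟨x.rev, h'⟩ := by
    intro x h'
    have h : ¬ (x : ℕ) < m := by rw [Fin.val_rev] at h'; omega
    show (if h : (x : ℕ) < m then W.e ⟨x, h⟩ else _) = _
    rw [dif_neg h, dif_pos h']
  have hbd : ∀ x : Fin (n + 1), ¬ (x : ℕ) < m → ¬ (x.rev : ℕ) < m → bv x = d := by
    intro x h h'
    show (if h : (x : ℕ) < m then W.e ⟨x, h⟩ else _) = _
    rw [dif_neg h, dif_neg h']
  have hee : ∀ i j, hermForm (n + 1) F q (W.e i) (W.e j) = 0 := W.ee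
  have hff : ∀ i j, hermForm (n + 1) F q (W.f i) (W.f j) = 0 := W.ff
  have hef : ∀ i j, hermForm (n + 1) F q (W.e i) (W.f j) = if i = j then 1 else 0 := W.ef
  have hfe : ∀ i j, hermForm (n + 1) F q (W.f i) (W.e j) = if i = j then 1 else 0 := W.fe
  have hde : ∀ i, hermForm (n + 1) F q d (W.e i) = 0 := W.V0e d hdV
  have hdf : ∀ i, hermForm (n + 1) F q d (W.f i) = 0 := W.V0f d hdV
  have hed : ∀ i, hermForm (n + 1) F q (W.e i) d = 0 := fun i => W.eV0 i hdV
  have hfd : ∀ i, hermForm (n + 1) F q (W.f i) d = 0 := fun i => W.fV0 i hdV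
  refine ⟨⟨W, bv, ?_, ?_, ?_⟩⟩
  · intro x y
    have hx : (x.rev : ℕ) = n - x := by rw [Fin.val_rev]; omega
    have hy : (y.rev : ℕ) = n - y := by rw [Fin.val_rev]; omega
    have hxy : (y = x.rev) ↔ (x : ℕ) + y = n := by
      rw [Fin.ext_iff, hx]; omega
    have hxn : (x : ℕ) ≤ n := by omega
    have hyn : (y : ℕ) ≤ n := by omega
    simp only [hxy]
    by_cases x1 : (x : ℕ) < m
    · rw [hbe x x1]
      by_cases y1 : (y : ℕ) < m
      · rw [hbe y y1, hee, if_neg (by omega)]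
      · by_cases y2 : (y.rev : ℕ) < m
        · rw [hbf y y2, hef]
          have : ((⟨x, x1⟩ : Fin m) = ⟨y.rev, y2⟩) ↔ (x : ℕ) + y = n := by
            rw [Fin.ext_iff]; show (x : ℕ) = y.rev ↔ _; rw [hy]; omega
          simp only [this]
        · rw [hbd y y1 y2, hed, if_neg (by rw [hy] at y2; omega)]
    · by_cases x2 : (x.rev : ℕ) < m
      · rw [hbf x x2]
        by_cases y1 : (y : ℕ) < m
        · rw [hbe y y1, hfe]
          have : ((⟨x.rev, x2⟩ : Fin m) = ⟨y, y1⟩) ↔ (x : ℕ) + y = n := by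
            rw [Fin.ext_iff]; show (x.rev : ℕ) = y ↔ _; rw [hx]; omega
          simp only [this]
        · by_cases y2 : (y.rev : ℕ) < m
          · rw [hbf y y2, hff, if_neg (by rw [hx] at x2; rw [hy] at y2; omega)]
          · rw [hbd y y1 y2, hfd, if_neg (by rw [hx] at x2; rw [hy] at y2; omega)]
      · rw [hbd x x1 x2]
        by_cases y1 : (y : ℕ) < m
        · rw [hbe y y1, hde, if_neg (by rw [hx] at x2; omega)]
        · by_cases y2 : (y.rev : ℕ) < m
          · rw [hbf y y2, hdf, if_neg (by rw [hx] at x2; rw [hy] at y2; omega)]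
          · rw [hbd y y1 y2, (hd1 (by rw [hx] at x2; omega)).1, if_pos (by rw [hx] at x2; rw [hy] at y2; omega)]
  · rintro ⟨i, s⟩
    cases s
    · have h1 : ((pos n (i, false)).rev : ℕ) < m := by
        rw [pos_false, Fin.rev_rev]; exact i.2
      rw [hbf _ h1]
      show _ = W.f i
      congr 1
      apply Fin.ext
      show ((pos n (i, false)).rev : ℕ) = i
      rw [pos_false, Fin.rev_rev]
    · exact hbe _ i.2
  · intro x hx
    have h0 := congrArg Fin.val hx
    rw [Fin.val_rev] at h0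
    have h1 : ¬ (x : ℕ) < m := by omega
    have h2 : ¬ (x.rev : ℕ) < m := by rw [Fin.val_rev]; omega
    rw [hbd x h1 h2]
    exact hdV

variable {hF n} (U : UB hF n)

namespace UB

/-- the base change matrix -/
def P : Matrix (Fin (n + 1)) (Fin (n + 1)) F := Matrix.of fun z x => U.bv x z

theorem gramP : U.Pᵀ * U.P.map (conj hF) = Jm F n := by
  ext x y
  rw [Matrix.mul_apply]
  have h := U.gram x y
  rw [herm_def] at h
  exact h

theorem isUnit_P : IsUnit U.P := by
  have h1 : U.Pᵀ * (U.P.map (conj hF) * Jm F n) = 1 := by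
    rw [← Matrix.mul_assoc, gramP, Jm_Jm]
  have h2 : IsUnit U.Pᵀ := by
    rw [Matrix.isUnit_iff_isUnit_det]
    have h3 := congrArg Matrix.det h1
    rw [Matrix.det_mul, Matrix.det_one] at h3
    exact IsUnit.of_mul_eq_one _ h3
  rwa [Matrix.isUnit_transpose] at h2

/-- the base change matrix as an element of `GL` -/
noncomputable def Pg : GL (Fin (n + 1)) F := U.isUnit_P.unit

theorem Pg_val : (U.Pg).1 = U.P := rfl

end UB

/-- conjugation by `g ∈ GL` on `SL` -/
noncomputable def cjSL (g : GL (Fin (n + 1)) F) : SpecialLinearGroup (Fin (n + 1)) F →* SpecialLinearGroup (Fin (n + 1)) F where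
  toFun A := ⟨(g⁻¹).1 * A.1 * g.1, by
    have h : (g⁻¹).1 * g.1 = 1 := by rw [← Units.val_mul, inv_mul_cancel, Units.val_one]
    have h' := congrArg Matrix.det h
    rw [Matrix.det_mul, Matrix.det_one] at h'
    rw [Matrix.det_mul, Matrix.det_mul, A.2, mul_one, h']⟩
  map_one' := by
    apply Subtype.ext
    show (g⁻¹).1 * (1 : Matrix _ _ F) * g.1 = 1
    rw [Matrix.mul_one, ← Units.val_mul, inv_mul_cancel, Units.val_one]
  map_mul' A B := by
    apply Subtype.ext
    show (g⁻¹).1 * (A.1 * B.1) * g.1 = (g⁻¹).1 * A.1 * g.1 * ((g⁻¹).1 * B.1 * g.1)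
    have h : g.1 * (g⁻¹).1 = 1 := by rw [← Units.val_mul, mul_inv_cancel, Units.val_one]
    calc (g⁻¹).1 * (A.1 * B.1) * g.1 = (g⁻¹).1 * A.1 * 1 * B.1 * g.1 := by simp only [Matrix.mul_one, Matrix.mul_assoc]
      _ = _ := by rw [← h]; simp only [Matrix.mul_assoc]

theorem cjSL_val (g : GL (Fin (n + 1)) F) (A : SpecialLinearGroup (Fin (n + 1)) F) :
    (cjSL g A).1 = (g⁻¹).1 * A.1 * g.1 := rfl

theorem cjSL_cjSL (g : GL (Fin (n + 1)) F) (A : SpecialLinearGroup (Fin (n + 1)) F) : cjSL g⁻¹ (cjSL g A) = A := by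
  apply Subtype.ext
  rw [cjSL_val, cjSL_val, inv_inv]
  have h : g.1 * (g⁻¹).1 = 1 := by rw [← Units.val_mul, mul_inv_cancel, Units.val_one]
  calc g.1 * ((g⁻¹).1 * A.1 * g.1) * (g⁻¹).1 = (g.1 * (g⁻¹).1) * A.1 * (g.1 * (g⁻¹).1) := by simp only [Matrix.mul_assoc]
    _ = A.1 := by rw [h, Matrix.one_mul, Matrix.mul_one]

variable (hF) in
/-- `SU` by a matrix identity -/
theorem mem_SU_mat {A : SpecialLinearGroup (Fin (n + 1)) F} : A ∈ SU (n + 1) F q ↔ A.1ᵀ * A.1.map (conj hF) = 1 := by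
  have key : ∀ u v, hermForm (n + 1) F q (A.1 *ᵥ u) (A.1 *ᵥ v) =
      ∑ x, ∑ y, u x * (A.1ᵀ * A.1.map (conj hF)) x y * v y ^ q := by
    intro u v
    have h1 : ∀ z, (A.1 *ᵥ u) z * (A.1 *ᵥ v) z ^ q = ∑ x, ∑ y, (A.1 z x * u x) * (A.1 z y ^ q * v y ^ q) := by
      intro z
      have h2 : (A.1 *ᵥ v) z ^ q = ∑ y, A.1 z y ^ q * v y ^ q := by
        show (∑ y, A.1 z y * v y) ^ q = _
        rw [sum_pow_q hF]
        exact Finset.sum_congr rfl fun y _ => mul_pow _ _ _
      rw [h2]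
      show (∑ x, A.1 z x * u x) * _ = _
      rw [Finset.sum_mul_sum]
    rw [herm_def, Finset.sum_congr rfl fun z _ => h1 z, Finset.sum_comm]
    refine Finset.sum_congr rfl fun x _ => ?_
    rw [Finset.sum_comm]
    refine Finset.sum_congr rfl fun y _ => ?_
    rw [Matrix.mul_apply, Finset.mul_sum, Finset.sum_mul]
    refine Finset.sum_congr rfl fun z _ => ?_
    rw [Matrix.transpose_apply, Matrix.map_apply, conj_apply]
    ring
  rw [mem_SU_iff]
  constructor
  · intro h
    ext x y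
    have h1 := h (Pi.single x 1) (Pi.single y 1)
    have h2 := key (Pi.single x 1) (Pi.single y 1)
    rw [Finset.sum_eq_single x] at h2
    · rw [Finset.sum_eq_single y] at h2
      · rw [Pi.single_eq_same, Pi.single_eq_same, one_pow, one_mul, mul_one] at h2
        rw [← h2, h1, herm_single_left, Matrix.one_apply]
        by_cases hxy : x = y
        · rw [if_pos hxy, hxy, Pi.single_eq_same, one_pow, mul_one]
        · rw [if_neg hxy, Pi.single_eq_of_ne hxy, zero_pow_q hF, mul_zero]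
      · intro b _ hb
        rw [Pi.single_eq_of_ne hb, zero_pow_q hF, mul_zero]
      · intro h; exact absurd (Finset.mem_univ _) h
    · intro b _ hb
      rw [Pi.single_eq_of_ne hb]
      simp
    · intro h; exact absurd (Finset.mem_univ _) h
  · intro h u v
    rw [key, h, herm_def]
    refine Finset.sum_congr rfl fun x _ => ?_
    rw [Finset.sum_eq_single x]
    · rw [Matrix.one_apply_eq, mul_one]
    · intro y _ hy
      rw [Matrix.one_apply_ne (Ne.symm hy), mul_zero, zero_mul]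
    · intro h; exact absurd (Finset.mem_univ _) h

end

end Cfsg.Agent.H356.TU
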