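import Cfsg.Agent.H356.TU.Rgd

/-!
# The homomorphism `SJ hF n →* SL_{n+1}(k)`: unipotent groups, torus, Weyl elements
-/

set_option autoImplicit false
set_option linter.unusedSectionVars false
set_option linter.unusedSimpArgs false

namespace Cfsg.Agent.H356.TU

open Matrix Cfsg Cfsg.Agent.H356.TA Cfsg.Agent.LieClassical.HermBasic Cfsg.Agent.LieClassical.HermSiegel
open Cfsg.Agent.TitsThree Cfsg.Agent.TitsThree.Siegel Cfsg.Agent.TitsThree.SiegelGen
  Cfsg.Agent.TitsThree.WittFrame Cfsg.Agent.TitsThree.WBridge Cfsg.Agent.TitsThree.WittWeyl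
  Cfsg.Agent.TitsThree.FrameCN Cfsg.Agent.TitsThree.KSideU Cfsg.Agent.TitsThree.KSideUDesc
open Cfsg.Agent.TitsThree.KSideA Cfsg.Agent.Nodes.RGDTypeA
open CoxeterSystem Cfsg.Agent.ChevalleyStructure.CoxeterGeom Cfsg.Agent.Tits.Roots
  Cfsg.Agent.Nodes.Comb Cfsg.Agent.Nodes.Reps Cfsg.Agent.Nodes.BNOf Cfsg.Agent.Nodes.RGDLib
open Cfsg.Agent.Nodes.RGDAllP Cfsg.Agent.Nodes.WittU Cfsg.Agent.Nodes.OppDec Cfsg.Agent.H45.UniE
open Cfsg.Agent.Nodes.TypeC (isCartan nx ok_nx Ok wt wt_apply ng wt_ng bt sum_bt exists_of_isRoot sg sg_up sg_down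
  sg_last sg_of_ne)
open Cfsg.Agent.Nodes.WittRoot (Amb Mono rg PG XG ZG PG_self PG_ne XG_swap mem_XG mem_ZG rg_eq)
open Cfsg.Agent.Nodes.WittRGD (Tor nn nn_mem nn_mem_sup mono_nn rg_sr rg_neg_sr)

/-! ### positivity -/

section pos

variable {m : ℕ}

theorem sum_ee (x : Fin m → ℤ) (j : Fin m) :
    ∑ k ∈ Finset.Iic j, Cfsg.Agent.Nodes.TypeC.ee x k = (if (j : ℕ) + 1 < m then 1 else 2) * x j := by
  have h1 : ∀ k, Cfsg.Agent.Nodes.TypeC.ee x k = ∑ j, x j * bt j k := by
    intro k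
    simp [Cfsg.Agent.Nodes.TypeC.ee, Finset.sum_apply]
  simp only [h1]
  rw [Finset.sum_comm]
  simp only [← Finset.mul_sum, sum_bt]
  rw [Finset.sum_eq_single j]
  · simp only [if_true]
    split_ifs <;> ring
  · intro i _ hi
    simp [Ne.symm hi]
  · simp

theorem sum_wt (a : Fin m × Bool) (j : Fin m) :
    ∑ k ∈ Finset.Iic j, wt a k = if a.1 ≤ j then (if a.2 then 1 else -1) else 0 := by
  simp only [wt_apply, Finset.sum_ite_eq', Finset.mem_Iic]

theorem sum_nonneg {x : Fin m → ℤ} (hx : 0 ≤ x) {a b : Fin m × Bool}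
    (e : Cfsg.Agent.Nodes.TypeC.ee x = wt a + wt b) (j : Fin m) :
    0 ≤ (if a.1 ≤ j then (if a.2 then (1 : ℤ) else -1) else 0) + if b.1 ≤ j then (if b.2 then (1 : ℤ) else -1) else 0 := by
  have h := sum_ee x j
  rw [e] at h
  simp only [Pi.add_apply, Finset.sum_add_distrib, sum_wt] at h
  rw [h]
  have := hx j
  split_ifs
  · rw [one_mul]; exact this
  · exact mul_nonneg (by norm_num) this

end pos

section

variable {n : ℕ}

theorem pos_pos {x : Fin ((n + 1) / 2) → ℤ} (hx : 0 ≤ x) {a b : Fin ((n + 1) / 2) × Bool} (hab : a.1 ≠ b.1)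
    (e : Cfsg.Agent.Nodes.TypeC.ee x = wt a + wt b) : pos n a < (pos n b).rev ∧ pos n b < (pos n a).rev := by
  have ha2 := a.1.2
  have hb2 := b.1.2
  have hab' : (a.1 : ℕ) ≠ b.1 := fun h => hab (Fin.ext h)
  rcases lt_or_gt_of_ne hab with h | h
  · have h1 := sum_nonneg hx e a.1
    rw [if_pos le_rfl, if_neg (not_le.2 h), add_zero] at h1
    obtain ⟨i, s⟩ := a
    obtain ⟨j, t⟩ := b
    cases s
    · norm_num at h1
    · have h' : (i : ℕ) < j := h
      rw [Fin.lt_def, Fin.lt_def, Fin.val_rev, Fin.val_rev, val_pos_true]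
      cases t
      · rw [val_pos_false]
        constructor <;> omega
      · rw [val_pos_true]
        constructor <;> omega
  · have h1 := sum_nonneg hx e b.1
    rw [if_pos (le_refl b.1), if_neg (not_le.2 h), zero_add] at h1
    obtain ⟨i, s⟩ := a
    obtain ⟨j, t⟩ := b
    cases t
    · norm_num at h1
    · have h' : (j : ℕ) < i := h
      rw [Fin.lt_def, Fin.lt_def, Fin.val_rev, Fin.val_rev, val_pos_true]
      cases s
      · rw [val_pos_false]
        constructor <;> omega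
      · rw [val_pos_true]
        constructor <;> omega

theorem pos_pos' {x : Fin ((n + 1) / 2) → ℤ} (hx : 0 ≤ x) {a : Fin ((n + 1) / 2) × Bool}
    (e : Cfsg.Agent.Nodes.TypeC.ee x = wt a + wt a) : a.2 = true := by
  have h1 := sum_nonneg hx e a.1
  rw [if_pos le_rfl] at h1
  cases h : a.2
  · rw [h] at h1
    norm_num at h1
  · rfl

theorem mi_val (n : ℕ) : (mi n : ℕ) = n / 2 := rfl

end

/-! ### base change -/

section bc

variable {F k : Type*} [Field F] [Field k] [Algebra F k] {n : ℕ}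

theorem bcA_tv' (a b : Fin (n + 1)) (s : F) : bcA n F k (tv a b s) = tv a b (algebraMap F k s) := by
  by_cases h : a = b
  · subst h
    have h1 : tv a a s = 1 := by
      unfold tv
      rw [dif_neg (not_not.2 rfl)]
    have h2 : tv a a (algebraMap F k s) = 1 := by
      unfold tv
      rw [dif_neg (not_not.2 rfl)]
    rw [h1, h2, map_one]
  · exact bcA_tv h s

theorem mem_U_tv {a b : Fin (n + 1)} (h : a < b) (s : k) : tv a b s ∈ (fdA n k).U :=
  Subgroup.subset_closure ⟨⟨(a, b), h⟩, s, rfl⟩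

theorem mem_Um_tv {a b : Fin (n + 1)} (h : b < a) (s : k) : tv a b s ∈ (fdA n k).Um :=
  Subgroup.subset_closure ⟨⟨(b, a), h⟩, s, (tr_tv h.ne s).symm⟩

end bc

section

variable {F : Type*} [Field F] [Fintype F] {q : ℕ} {hF : Fintype.card F = q ^ 2} {n : ℕ} {U : UB hF n}
  {k : Type*} [Field k] [Algebra F k]

theorem phi_val (s : SJ hF n) : phi hF n k s = bcA n F k s.1 := rfl

theorem bcA_mX (a b : Fin ((n + 1) / 2) × Bool) (t : F) : bcA n F k (mX q a b t) =
    tv (pos n a) (pos n b).rev (algebraMap F k t) * tv (pos n b) (pos n a).rev (algebraMap F k (-t ^ q)) := by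
  unfold mX
  rw [map_mul, bcA_tv', bcA_tv']

theorem bcA_mZ (a : Fin ((n + 1) / 2) × Bool) (ω c : F) : bcA n F k (mZ q a ω c) =
    tv (mi n) (pos n a).rev (algebraMap F k ω) * tv (pos n a) (mi n) (algebraMap F k (-ω ^ q)) *
      tv (pos n a) (pos n a).rev (algebraMap F k c) := by
  unfold mZ
  rw [map_mul, map_mul, bcA_tv', bcA_tv', bcA_tv']

/-- **the positive unipotent group** -/
theorem phi_U {u : SJ hF n} (hu : u ∈ RGD.Sup U.XS (RGD.Pos (UB.cs n) (isCartan ((n + 1) / 2)))) :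
    phi hF n k u ∈ (fdA n k).U := by
  have h : RGD.Sup U.XS (RGD.Pos (UB.cs n) (isCartan ((n + 1) / 2))) ≤ ((fdA n k).U).comap (phi hF n k) := by
    refine RGD.Sup_le fun x hx s hs => ?_
    obtain ⟨a, b, hab, e⟩ := exists_of_isRoot (UB.cs n) hx.1
    rw [Subgroup.mem_comap, phi_val]
    rcases hab with hab | rfl
    · obtain ⟨t, ht⟩ := (U.mem_XS_of hab (rg_eq U.Fr (Or.inl hab) e)).1 hs
      obtain ⟨h1, h2⟩ := pos_pos hx.2 hab e
      rw [ht, bcA_mX]
      exact mul_mem (mem_U_tv h1 _) (mem_U_tv h2 _)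
    · obtain ⟨ω, c, -, hω, ht⟩ := (U.mem_XS_of' (rg_eq U.Fr (Or.inr rfl) e)).1 hs
      have h1 := pos_pos' hx.2 e
      obtain ⟨i, s'⟩ := a
      simp only at h1
      subst h1
      have hi := i.2
      rw [ht, bcA_mZ]
      refine mul_mem ?_ (mem_U_tv ?_ _)
      · by_cases hn : Even n
        · have hn' : n % 2 = 0 := Nat.even_iff.1 hn
          refine mul_mem (mem_U_tv ?_ _) (mem_U_tv ?_ _)
          · rw [Fin.lt_def, Fin.val_rev, val_pos_true, mi_val]; omega
          · rw [Fin.lt_def, val_pos_true, mi_val]; omega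
        · have hq : q ≠ 0 := (q_pos hF).ne'
          rw [hω hn, map_zero, tv_zero, zero_pow hq, neg_zero, map_zero, tv_zero, mul_one]
          exact one_mem _
      · rw [Fin.lt_def, Fin.val_rev, val_pos_true]; omega
  exact h hu

/-- **the negative unipotent group** -/
theorem phi_Um {u : SJ hF n} (hu : u ∈ UN (UB.cs n) (isCartan ((n + 1) / 2)) U.XS) :
    phi hF n k u ∈ (fdA n k).Um := by
  have h : UN (UB.cs n) (isCartan ((n + 1) / 2)) U.XS ≤ ((fdA n k).Um).comap (phi hF n k) := by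
    unfold UN
    refine RGD.Sup_le fun x hx s hs => ?_
    obtain ⟨a, b, hab, e⟩ := exists_of_isRoot (UB.cs n) hx.1
    have hx' : 0 ≤ -x := neg_nonneg.2 hx.2
    have e' : Cfsg.Agent.Nodes.TypeC.ee (-x) = wt (ng a) + wt (ng b) := by
      rw [Cfsg.Agent.Nodes.TypeC.ee_neg, e, wt_ng, wt_ng, neg_add]
    rw [Subgroup.mem_comap, phi_val]
    have hng : ∀ a : Fin ((n + 1) / 2) × Bool, pos n (ng a) = (pos n a).rev := fun a => pos_neg a
    rcases hab with hab | rfl
    · obtain ⟨t, ht⟩ := (U.mem_XS_of hab (rg_eq U.Fr (Or.inl hab) e)).1 hs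
      obtain ⟨h1, h2⟩ := pos_pos hx' (a := ng a) (b := ng b) hab e'
      rw [hng, hng, Fin.rev_rev] at h1
      rw [hng, hng, Fin.rev_rev] at h2
      rw [ht, bcA_mX]
      exact mul_mem (mem_Um_tv h2 _) (mem_Um_tv h1 _)
    · obtain ⟨ω, c, -, hω, ht⟩ := (U.mem_XS_of' (rg_eq U.Fr (Or.inr rfl) e)).1 hs
      have h1 := pos_pos' hx' e'
      obtain ⟨i, s'⟩ := a
      cases s'
      swap
      · exact absurd h1 (by simp [ng])
      have hi := i.2
      rw [ht, bcA_mZ]
      refine mul_mem ?_ (mem_Um_tv ?_ _)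
      · by_cases hn : Even n
        · have hn' : n % 2 = 0 := Nat.even_iff.1 hn
          refine mul_mem (mem_Um_tv ?_ _) (mem_Um_tv ?_ _)
          · rw [Fin.lt_def, Fin.val_rev, val_pos_false, mi_val]; omega
          · rw [Fin.lt_def, val_pos_false, mi_val]; omega
        · have hq : q ≠ 0 := (q_pos hF).ne'
          rw [hω hn, map_zero, tv_zero, zero_pow hq, neg_zero, map_zero, tv_zero, mul_one]
          exact one_mem _
      · rw [Fin.lt_def, Fin.val_rev, val_pos_false]; omega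
  exact h hu

/-! ### the torus -/

theorem mem_TS_iff {s : SJ hF n} : s ∈ U.TS ↔ ∀ x y, x ≠ y → s.1.1 x y = 0 := by
  rw [UB.mem_TS]
  constructor
  · intro hs x y hxy
    rw [U.entry]
    rcases pos_or y with ⟨a, rfl⟩ | hy
    · obtain ⟨l, -, e⟩ := hs a
      rw [U.hb, e, herm_smul_left]
      have h1 := U.gram'' a x
      have e1 : (U.Fr).b (id a) = (U.Fr).b a := rfl
      rw [e1, h1, if_neg hxy, mul_zero]
    · have hV : U.bv y ∈ (U.Fr).V0 := U.mid y hy
      have h1 := U.amb.map_V0 (U.toV_mem s) hs (fun _ => rfl) hV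
      rw [U.herm_V0 h1, if_neg]
      rw [← eq_mid hy]
      exact hxy
  · intro hs a
    refine ⟨s.1.1 (pos n a) (pos n a), ?_, ?_⟩
    · intro h0
      -- the determinant would vanish
      have h1 := s.1.2
      have h2 : s.1.1.det = 0 := by
        refine Matrix.det_eq_zero_of_column_eq_zero (pos n a) fun x => ?_
        by_cases hx : x = pos n a
        · rw [hx, h0]
        · exact hs x _ hx
      rw [h2] at h1
      exact zero_ne_one h1
    · show U.toV s ((U.Fr).b a) = _ • (U.Fr).b a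
      rw [← U.hb, U.toV_bv, Finset.sum_eq_single (pos n a)]
      · intro x _ hx
        rw [hs x _ hx, zero_smul]
      · intro h; exact absurd (Finset.mem_univ _) h

theorem phi_T {s : SJ hF n} (hs : s ∈ U.TS) : phi hF n k s ∈ (fdA n k).T := by
  show _ ∈ T (Fin (n + 1)) k
  rw [mem_T]
  intro x y hxy
  by_contra h
  apply hxy
  show algebraMap F k (s.1.1 x y) = 0
  rw [mem_TS_iff.1 hs x y h, map_zero]

theorem hh_mem_TS (j : Fin ((n + 1) / 2)) (b : Cs (F := F) q n j) : hh hF n j b ∈ U.TS := by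
  rw [mem_TS_iff]
  intro x y hxy
  rw [hh_val, Matrix.diagonal_apply_ne _ hxy]

theorem TS_comm (s : SJ hF n) (hs : s ∈ U.TS) (t : SJ hF n) (ht : t ∈ U.TS) : s * t = t * s := by
  have h : ∀ {s : SJ hF n}, s ∈ U.TS → s.1.1 = diagonal fun x => s.1.1 x x := by
    intro s hs
    ext x y
    rw [Matrix.diagonal_apply]
    by_cases hxy : x = y
    · rw [if_pos hxy, hxy]
    · rw [if_neg hxy, mem_TS_iff.1 hs x y hxy]
  apply Subtype.ext
  apply Subtype.ext
  show s.1.1 * t.1.1 = t.1.1 * s.1.1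
  rw [h hs, h ht, diagonal_mul_diagonal, diagonal_mul_diagonal]
  congr 1
  funext x
  rw [mul_comm]

end

end Cfsg.Agent.H356.TU
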