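import Cfsg.Agent.H356.TU.Root
import Cfsg.Agent.H564.TWP.Rgd

/-!
# The root group datum of `SJ hF n`
-/

set_option autoImplicit false
set_option linter.unusedSectionVars false
set_option linter.unusedSimpArgs false

namespace Cfsg.Agent.H356.TU

open Matrix Cfsg Cfsg.Agent.H356.TA Cfsg.Agent.LieClassical.HermBasic Cfsg.Agent.LieClassical.HermSiegel
open Cfsg.Agent.TitsThree Cfsg.Agent.TitsThree.Siegel Cfsg.Agent.TitsThree.SiegelGen
  Cfsg.Agent.TitsThree.WittFrame Cfsg.Agent.TitsThree.WBridge Cfsg.Agent.TitsThree.WittWeyl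
  Cfsg.Agent.TitsThree.FrameCN Cfsg.Agent.TitsThree.KSideU Cfsg.Agent.TitsThree.KSideUDesc
open Cfsg.Agent.TitsThree.KSideA Cfsg.Agent.Nodes.RGDTypeA
open CoxeterSystem Cfsg.Agent.ChevalleyStructure.CoxeterGeom Cfsg.Agent.Tits.Roots
  Cfsg.Agent.Nodes.Comb Cfsg.Agent.Nodes.Reps Cfsg.Agent.Nodes.BNOf Cfsg.Agent.Nodes.RGDLib
open Cfsg.Agent.Nodes.RGDAllP Cfsg.Agent.Nodes.WittU
open Cfsg.Agent.Nodes.TypeC (isCartan nx ok_nx)
open Cfsg.Agent.Nodes.WittRoot (Amb Mono rg PG XG ZG PG_self PG_ne XG_swap mem_XG mem_ZG)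
open Cfsg.Agent.Nodes.WittRGD (Tor nn nn_mem nn_mem_sup mono_nn rg_sr rg_neg_sr)

variable {F : Type*} [Field F] [Fintype F] {q : ℕ} {hF : Fintype.card F = q ^ 2} {n : ℕ} (U : UB hF n)

namespace UB

theorem amb : Amb U.Fr (IU F q (n + 1)) := amb_U hF U.W

/-- the inverse of `toV` on `IU` -/
noncomputable def ff : IU F q (n + 1) →* SJ hF n := U.psi.toMonoidHom.comp (ofRange F q (n + 1)).toMonoidHom

theorem toV_ff (g : IU F q (n + 1)) : U.toV (U.ff g) = g.1 := by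
  show toLin F q (n + 1) (U.psi.symm (U.psi (ofRange F q (n + 1) g))) = g.1
  rw [MulEquiv.symm_apply_apply, toLin_ofRange]

theorem map_ff (B : Subgroup ((Fin (n + 1) → F) ≃ₗ[F] (Fin (n + 1) → F))) :
    (B.subgroupOf (IU F q (n + 1))).map U.ff = B.comap U.toV := by
  ext s
  constructor
  · rintro ⟨g, hg, rfl⟩
    rw [Subgroup.mem_comap, toV_ff]
    exact Subgroup.mem_subgroupOf.1 hg
  · intro hs
    refine ⟨⟨U.toV s, U.toV_mem s⟩, Subgroup.mem_subgroupOf.2 hs, ?_⟩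
    apply U.toV_injective
    rw [toV_ff]

/-- the torus -/
noncomputable def TS : Subgroup (SJ hF n) := (Tor U.Fr (IU F q (n + 1))).comap U.toV

/-- the root groups -/
noncomputable def XS (x : Fin ((n + 1) / 2) → ℤ) : Subgroup (SJ hF n) := (rg U.Fr x).comap U.toV

variable {U} in
theorem mem_XS {x : Fin ((n + 1) / 2) → ℤ} {s : SJ hF n} : s ∈ U.XS x ↔ U.toV s ∈ rg U.Fr x := Iff.rfl

variable {U} in
theorem mem_TS {s : SJ hF n} : s ∈ U.TS ↔ Mono U.Fr (U.toV s) id :=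
  ⟨fun h => h.2, fun h => ⟨U.toV_mem s, h⟩⟩

/-- an admissible pair -/
noncomputable def p0 : (U.Fr).Adm := (exists_adm hF U.W).choose

theorem p0_c : U.p0.c ≠ 0 := (exists_adm hF U.W).choose_spec.1

/-- the Weyl elements -/
noncomputable def nS (i : Fin ((n + 1) / 2)) : SJ hF n := U.ff ⟨nn U.Fr U.p0 i, nn_mem U.amb U.p0 i⟩

theorem toV_nS (i : Fin ((n + 1) / 2)) : U.toV (U.nS i) = nn U.Fr U.p0 i := U.toV_ff _

instance : Finite ((Fin (n + 1) → F) ≃ₗ[F] (Fin (n + 1) → F)) := finite_equiv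

variable (n) in
/-- the Coxeter system -/
noncomputable abbrev cs : CoxeterSystem (CoxeterMatrix.B ((n + 1) / 2)) (CoxeterMatrix.B ((n + 1) / 2)).Group :=
  (CoxeterMatrix.B ((n + 1) / 2)).toCoxeterSystem

theorem finiteW : Finite (CoxeterMatrix.B ((n + 1) / 2)).Group :=
  Cfsg.Agent.Nodes.TypeC.finite_W (CoxeterMatrix.B ((n + 1) / 2)).toCoxeterSystem

/-- **the root group datum of `SJ hF n`** -/
theorem rgd {p : ℕ} [Fact p.Prime] [CharP F p] : RGD (cs n) (isCartan ((n + 1) / 2)) p U.TS U.nS U.XS := by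
  have : Finite (CoxeterMatrix.B ((n + 1) / 2)).Group := finiteW
  have h1 := rgd_restrict (rgdC (p := p) U.amb U.p0_c (cs n)) (IU F q (n + 1)) (fun x _ => U.amb.rg_le x)
    (fun i => nn_mem U.amb U.p0 i)
  have h2 := rgd_map_of_ker_le_center h1 U.ff (fun g hg => by
    have h3 : U.ff g = 1 := hg
    have h4 : g = 1 := by
      apply Subtype.ext
      rw [← U.toV_ff, h3, map_one]
      rfl
    rw [h4]
    exact one_mem _)
  simp only [U.map_ff] at h2
  exact h2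

/-! ### the simple root groups -/

theorem mem_XS_of {x : Fin ((n + 1) / 2) → ℤ} {a b : Fin ((n + 1) / 2) × Bool} (hab : a.1 ≠ b.1)
    (hx : rg U.Fr x = PG U.Fr a b) {s : SJ hF n} : s ∈ U.XS x ↔ ∃ t, s.1 = mX q a b t := by
  rw [mem_XS, hx, PG_ne U.Fr hab, mem_XG]
  simp only [U.toV_X_iff hab]

theorem mem_XS_of' {x : Fin ((n + 1) / 2) → ℤ} {a : Fin ((n + 1) / 2) × Bool}
    (hx : rg U.Fr x = PG U.Fr a a) {s : SJ hF n} : s ∈ U.XS x ↔ ∃ ω c : F, c + c ^ q = -(ω * ω ^ q) ∧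
      (¬ Even n → ω = 0) ∧ s.1 = mZ q a ω c := by
  rw [mem_XS, hx, PG_self, mem_ZG]
  constructor
  · rintro ⟨p, hp⟩
    rw [U.toV_Z_iff] at hp
    exact ⟨_, _, U.adm_c p, fun h => U.om_of_odd h ((U.Fr).ok_mem p.ok), hp⟩
  · rintro ⟨ω, c, h1, h2, h3⟩
    obtain ⟨p, hp1, hp2⟩ := U.exists_adm_of h1 h2
    exact ⟨p, (U.toV_Z_iff a p s).2 (by rw [hp1, hp2]; exact h3)⟩

variable {U}

theorem mem_XS_sr {i : Fin ((n + 1) / 2)} (hi : (i : ℕ) + 1 < (n + 1) / 2) {s : SJ hF n} :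
    s ∈ U.XS (sr i) ↔ ∃ t, s.1 = mX q (i, true) (⟨i + 1, hi⟩, false) t := by
  have hnx : nx i = (⟨i + 1, hi⟩, false) := by unfold nx; rw [dif_pos hi]
  refine U.mem_XS_of (a := (i, true)) (b := (⟨i + 1, hi⟩, false)) (by simp [Fin.ext_iff]) ?_
  rw [← hnx]
  exact rg_sr i

theorem mem_XS_neg_sr {i : Fin ((n + 1) / 2)} (hi : (i : ℕ) + 1 < (n + 1) / 2) {s : SJ hF n} :
    s ∈ U.XS (-sr i) ↔ ∃ t, s.1 = mX q (i, false) (⟨i + 1, hi⟩, true) t := by
  have hnx : nx i = (⟨i + 1, hi⟩, false) := by unfold nx; rw [dif_pos hi]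
  refine U.mem_XS_of (a := (i, false)) (b := (⟨i + 1, hi⟩, true)) (by simp [Fin.ext_iff]) ?_
  have h := rg_neg_sr (Fr := U.Fr) i
  rw [hnx] at h
  exact h

theorem mem_XS_sr' {i : Fin ((n + 1) / 2)} (hi : ¬ (i : ℕ) + 1 < (n + 1) / 2) {s : SJ hF n} :
    s ∈ U.XS (sr i) ↔ ∃ ω c : F, c + c ^ q = -(ω * ω ^ q) ∧ (¬ Even n → ω = 0) ∧ s.1 = mZ q (i, true) ω c := by
  have hnx : nx i = (i, true) := by unfold nx; rw [dif_neg hi]
  refine U.mem_XS_of' ?_
  have h := rg_sr (Fr := U.Fr) i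
  rw [hnx] at h
  exact h

theorem mem_XS_neg_sr' {i : Fin ((n + 1) / 2)} (hi : ¬ (i : ℕ) + 1 < (n + 1) / 2) {s : SJ hF n} :
    s ∈ U.XS (-sr i) ↔ ∃ ω c : F, c + c ^ q = -(ω * ω ^ q) ∧ (¬ Even n → ω = 0) ∧ s.1 = mZ q (i, false) ω c := by
  have hnx : nx i = (i, true) := by unfold nx; rw [dif_neg hi]
  refine U.mem_XS_of' ?_
  have h := rg_neg_sr (Fr := U.Fr) i
  rw [hnx] at h
  exact h

variable (U)

/-- **generation by the simple root groups** -/
theorem gen (hn : 2 ≤ n) : (⨆ i, (U.XS (sr i) ⊔ U.XS (-sr i))) = ⊤ := by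
  set K := ⨆ i, (U.XS (sr i) ⊔ U.XS (-sr i)) with hK
  have h1 : ∀ i, U.XS (sr i) ≤ K := fun i => le_trans le_sup_left (le_iSup (fun i => U.XS (sr i) ⊔ U.XS (-sr i)) i)
  have h2 : ∀ i, U.XS (-sr i) ≤ K := fun i => le_trans le_sup_right (le_iSup (fun i => U.XS (sr i) ⊔ U.XS (-sr i)) i)
  set L := K.map U.toV with hL
  -- elements of `rg` lie in `L`
  have h1' : ∀ i, rg U.Fr (sr i) ≤ L := by
    intro i g hg
    obtain ⟨s, rfl⟩ := U.mem_IU.1 (U.amb.rg_le _ hg)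
    exact ⟨s, h1 i hg, rfl⟩
  have h2' : ∀ i, rg U.Fr (-sr i) ≤ L := by
    intro i g hg
    obtain ⟨s, rfl⟩ := U.mem_IU.1 (U.amb.rg_le _ hg)
    exact ⟨s, h2 i hg, rfl⟩
  have hm : 0 < (n + 1) / 2 := by omega
  let l : Fin ((n + 1) / 2) := ⟨(n + 1) / 2 - 1, by omega⟩
  have hl : ¬ (l : ℕ) + 1 < (n + 1) / 2 := by
    show ¬ ((n + 1) / 2 - 1) + 1 < (n + 1) / 2
    omega
  have hnxl : nx l = (l, true) := by unfold nx; rw [dif_neg hl]
  have hC : U.W.Contains L := contains_C U.W l (fun i j hij t => by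
      have hi : (i : ℕ) + 1 < (n + 1) / 2 := by rw [hij]; exact j.2
      have hj : j = ⟨i + 1, hi⟩ := Fin.ext hij.symm
      have hnx : nx i = (j, false) := by unfold nx; rw [dif_pos hi, hj]
      have hne : i ≠ j := fun h => by rw [h] at hij; omega
      constructor
      · apply h1' i
        have h := rg_sr (Fr := U.Fr) i
        rw [h, hnx, PG_ne U.Fr (a := (i, true)) (b := (j, false)) hne]
        exact ⟨t, rfl⟩
      · apply h2' i
        have h := rg_neg_sr (Fr := U.Fr) i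
        rw [h, hnx]
        show _ ∈ PG U.Fr (i, false) (j, true)
        rw [PG_ne U.Fr (a := (i, false)) (b := (j, true)) hne, XG_swap U.Fr (a := (i, false)) (b := (j, true)) hne]
        exact ⟨t, rfl⟩)
    (fun p => by
      constructor
      · apply h1' l
        have h := rg_sr (Fr := U.Fr) l
        rw [h, hnxl, PG_self]
        exact ⟨p, rfl⟩
      · apply h2' l
        have h := rg_neg_sr (Fr := U.Fr) l
        rw [h, hnxl]
        show _ ∈ PG U.Fr (l, false) (l, false)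
        rw [PG_self]
        exact ⟨p, rfl⟩)
    (exists_adm_ne hF U.W)
  have htop : L.comap (toLin F q (n + 1)) = ⊤ := by
    refine eq_top_of_sie hF (by omega) _ fun u w c huu huw hok => ?_
    have h3 := hC.all U.W ((sing_iff hF).2 huu) huu huw hok
    obtain ⟨g, hg⟩ := sie_mem hF huu huw hok
    exact ⟨g, by rw [SetLike.mem_coe, Subgroup.mem_comap, hg]; exact h3, hg⟩
  rw [eq_top_iff]
  intro s _
  have h4 : U.psi.symm s ∈ L.comap (toLin F q (n + 1)) := by rw [htop]; exact Subgroup.mem_top _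
  obtain ⟨s', hs', e⟩ := h4
  have h5 : s' = s := U.toV_injective e
  rw [← h5]
  exact hs'

end UB

end Cfsg.Agent.H356.TU
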