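import Cfsg.Agent.H356.TU.Iso

/-!
# The root elements of `SJ hF n` as products of transvections
-/

set_option autoImplicit false
set_option linter.unusedSectionVars false
set_option linter.unusedSimpArgs false

namespace Cfsg.Agent.H356.TU

open Matrix Cfsg Cfsg.Agent.H356.TA Cfsg.Agent.LieClassical.HermBasic Cfsg.Agent.LieClassical.HermSiegel
open Cfsg.Agent.TitsThree Cfsg.Agent.TitsThree.Siegel Cfsg.Agent.TitsThree.SiegelGen
  Cfsg.Agent.TitsThree.WittFrame Cfsg.Agent.TitsThree.WBridge Cfsg.Agent.TitsThree.WittWeyl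
  Cfsg.Agent.TitsThree.FrameCN Cfsg.Agent.TitsThree.KSideU Cfsg.Agent.TitsThree.KSideUDesc
open Cfsg.Agent.TitsThree.KSideA Cfsg.Agent.Nodes.RGDTypeA

section elem

variable {k : Type*} [Field k] {n : ℕ}

theorem tv_apply {a b : Fin (n + 1)} (hab : a ≠ b) (t : k) (x y : Fin (n + 1)) :
    (tv a b t).1 x y = (if x = y then 1 else 0) + if x = a ∧ y = b then t else 0 := by
  rw [tv_val hab, Matrix.add_apply, Matrix.one_apply, Matrix.single_apply]
  congr 1
  by_cases h : a = x ∧ b = y
  · rw [if_pos h, if_pos ⟨h.1.symm, h.2.symm⟩]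
  · rw [if_neg h, if_neg (fun h' => h ⟨h'.1.symm, h'.2.symm⟩)]

theorem tv_tv_apply {a b c d : Fin (n + 1)} (hab : a ≠ b) (hcd : c ≠ d) (hbc : b ≠ c) (s t : k) (x y : Fin (n + 1)) :
    (tv a b s * tv c d t).1 x y = (if x = y then 1 else 0) + (if x = a ∧ y = b then s else 0) +
      if x = c ∧ y = d then t else 0 := by
  have h1 : (tv a b s * tv c d t).1 = 1 + single a b s + single c d t := by
    show (tv a b s).1 * (tv c d t).1 = _
    rw [tv_val hab, tv_val hcd, Matrix.add_mul, Matrix.one_mul, Matrix.mul_add, Matrix.mul_one,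
      Matrix.single_mul_single_of_ne (h := hbc), add_zero]
    abel
  have e : ∀ (i j : Fin (n + 1)) (u : k), (if i = x ∧ j = y then u else 0) = if x = i ∧ y = j then u else 0 := by
    intro i j u
    by_cases h : i = x ∧ j = y
    · rw [if_pos h, if_pos ⟨h.1.symm, h.2.symm⟩]
    · rw [if_neg h, if_neg (fun h' => h ⟨h'.1.symm, h'.2.symm⟩)]
  rw [h1, Matrix.add_apply, Matrix.add_apply, Matrix.one_apply, Matrix.single_apply, Matrix.single_apply, e, e]

theorem tv_tv_tv_apply {m r a : Fin (n + 1)} (hmr : m ≠ r) (ham : a ≠ m) (har : a ≠ r) (s t u : k)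
    (x y : Fin (n + 1)) :
    (tv m r s * tv a m t * tv a r u).1 x y = (if x = y then 1 else 0) + (if x = m ∧ y = r then s else 0) +
      (if x = a ∧ y = m then t else 0) + if x = a ∧ y = r then u else 0 := by
  have h1 : (tv m r s * tv a m t * tv a r u).1 = 1 + single m r s + single a m t + single a r u := by
    show (tv m r s).1 * (tv a m t).1 * (tv a r u).1 = _
    have e1 : (single m r s : Matrix (Fin (n + 1)) (Fin (n + 1)) k) * single a m t = 0 :=
      Matrix.single_mul_single_of_ne (h := har.symm) ..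
    have e2 : (single m r s : Matrix (Fin (n + 1)) (Fin (n + 1)) k) * single a r u = 0 :=
      Matrix.single_mul_single_of_ne (h := har.symm) ..
    have e3 : (single a m t : Matrix (Fin (n + 1)) (Fin (n + 1)) k) * single a r u = 0 :=
      Matrix.single_mul_single_of_ne (h := ham.symm) ..
    rw [tv_val hmr, tv_val ham, tv_val har]
    simp only [Matrix.add_mul, Matrix.mul_add, Matrix.one_mul, Matrix.mul_one, e1, e2, e3, add_zero]
    try abel
  have e : ∀ (i j : Fin (n + 1)) (u : k), (if i = x ∧ j = y then u else 0) = if x = i ∧ y = j then u else 0 := by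
    intro i j u
    by_cases h : i = x ∧ j = y
    · rw [if_pos h, if_pos ⟨h.1.symm, h.2.symm⟩]
    · rw [if_neg h, if_neg (fun h' => h ⟨h'.1.symm, h'.2.symm⟩)]
  rw [h1, Matrix.add_apply, Matrix.add_apply, Matrix.add_apply, Matrix.one_apply, Matrix.single_apply,
    Matrix.single_apply, Matrix.single_apply, e, e, e]

end elem

section

variable {F : Type*} [Field F] [Fintype F] {q : ℕ}

/-- the long root elements (type I) -/
noncomputable def mX (q : ℕ) {n : ℕ} (a b : Fin ((n + 1) / 2) × Bool) (t : F) : SpecialLinearGroup (Fin (n + 1)) F :=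
  tv (pos n a) (pos n b).rev t * tv (pos n b) (pos n a).rev (-t ^ q)

/-- the middle index -/
def mi (n : ℕ) : Fin (n + 1) := ⟨n / 2, by omega⟩

theorem eq_mid {n : ℕ} {x : Fin (n + 1)} (h : x = x.rev) : x = mi n := by
  have h' := congrArg Fin.val h
  rw [Fin.val_rev] at h'
  apply Fin.ext
  show (x : ℕ) = n / 2
  omega

theorem mid_rev {n : ℕ} (h : Even n) : (mi n).rev = mi n := by
  obtain ⟨k, hk⟩ := h
  apply Fin.ext
  rw [Fin.val_rev]
  show n + 1 - (n / 2 + 1) = n / 2
  omega

theorem ne_rev_of_odd {n : ℕ} (h : ¬ Even n) (x : Fin (n + 1)) : x ≠ x.rev := by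
  intro h'
  have h1 := congrArg Fin.val h'
  rw [Fin.val_rev] at h1
  apply h
  exact ⟨x, by omega⟩

theorem pos_ne_mid {n : ℕ} (h : Even n) (a : Fin ((n + 1) / 2) × Bool) : pos n a ≠ mi n := by
  intro h1
  exact pos_ne_self_rev a (by rw [h1, mid_rev h])

theorem pos_rev_ne_mid {n : ℕ} (h : Even n) (a : Fin ((n + 1) / 2) × Bool) : (pos n a).rev ≠ mi n := by
  rw [← pos_neg]
  exact pos_ne_mid h _

/-- the root elements of type II -/
noncomputable def mZ (q : ℕ) {n : ℕ} (a : Fin ((n + 1) / 2) × Bool) (ω c : F) : SpecialLinearGroup (Fin (n + 1)) F :=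
  tv (mi n) (pos n a).rev ω * tv (pos n a) (mi n) (-ω ^ q) * tv (pos n a) (pos n a).rev c

variable {hF : Fintype.card F = q ^ 2} {n : ℕ} (U : UB hF n)

namespace UB

theorem toV_X_iff {a b : Fin ((n + 1) / 2) × Bool} (hab : a.1 ≠ b.1) (t : F) (s : SJ hF n) :
    U.toV s = (U.Fr).X a b t ↔ s.1 = mX q a b t := by
  have hm : ∀ x y, (mX q a b t).1 x y = hermForm (n + 1) F q ((U.Fr).X a b t (U.bv y)) (U.bv x.rev) := by
    intro x y
    rw [U.herm_X hab]
    unfold mX
    rw [tv_tv_apply (pos_ne_rev a b hab) (pos_ne_rev b a hab.symm) (fun h => pos_ne_self_rev b h.symm)]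
    have e : (if x = pos n b ∧ y = (pos n a).rev then -t ^ q else 0) =
        -(if x = pos n b ∧ y = (pos n a).rev then t ^ q else 0) := by
      split_ifs
      · rfl
      · rw [neg_zero]
    rw [e]
    ring
  constructor
  · intro h
    apply Subtype.ext
    ext x y
    rw [hm, U.entry, h]
  · intro h
    apply U.eq_of_entry (X_mem hF U.W a b t)
    intro x y
    rw [h, hm]

/-- the coordinate of a vector of `V0` -/
def om (w : Fin (n + 1) → F) : F := hermForm (n + 1) F q w (U.bv (mi n).rev)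

theorem herm_V0 {w : Fin (n + 1) → F} (hw : w ∈ U.W.V0) (x : Fin (n + 1)) :
    hermForm (n + 1) F q w (U.bv x.rev) = if x = mi n then U.om w else 0 := by
  by_cases hx : x = mi n
  · rw [if_pos hx, hx]
    rfl
  · rw [if_neg hx]
    rcases pos_or x.rev with ⟨a, ha⟩ | h
    · rw [ha, U.hb]
      exact (U.Fr).h0' a hw
    · exfalso
      apply hx
      apply eq_mid
      rw [Fin.rev_rev] at h
      exact h.symm

theorem om_of_odd (h : ¬ Even n) {w : Fin (n + 1) → F} (hw : w ∈ U.W.V0) : U.om w = 0 := by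
  unfold om
  rcases pos_or (mi n).rev with ⟨a, ha⟩ | h'
  · rw [ha, U.hb]
    exact (U.Fr).h0' a hw
  · exact absurd h' (ne_rev_of_odd h _)

theorem herm_V0' {w : Fin (n + 1) → F} (hw : w ∈ U.W.V0) (y : Fin (n + 1)) :
    hermForm (n + 1) F q (U.bv y) w = if y = mi n then (U.om w) ^ q else 0 := by
  have h1 : hermForm (n + 1) F q (U.bv y) w = (hermForm (n + 1) F q w (U.bv y)) ^ q := herm_swap hF w (U.bv y)
  have h2 := U.herm_V0 hw y.rev
  rw [Fin.rev_rev] at h2
  rw [h1, h2]
  by_cases hn : Even n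
  · by_cases hy : y = mi n
    · rw [if_pos hy, if_pos (by rw [hy, mid_rev hn])]
    · rw [if_neg hy, if_neg (fun h => hy (by rw [← Fin.rev_rev y, h, mid_rev hn])), zero_pow_q hF]
  · rw [U.om_of_odd hn hw]
    simp [zero_pow_q hF]

/-- the vectors of `V0` -/
theorem V0_eq {w : Fin (n + 1) → F} (hw : w ∈ U.W.V0) : w = U.om w • U.bv (mi n) := by
  -- expansion in the basis
  have h1 : ∀ v : Fin (n + 1) → F, v = ∑ x, hermForm (n + 1) F q v (U.bv x.rev) • U.bv x := by
    intro v
    -- `v = P (P⁻¹ v)`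
    have h2 : v = U.P *ᵥ ((U.Pg⁻¹).1 *ᵥ v) := by
      rw [Matrix.mulVec_mulVec, U.mul_Pg_inv, Matrix.one_mulVec]
    have h3 : v = ∑ x, ((U.Pg⁻¹).1 *ᵥ v) x • U.bv x := by
      funext z
      have := congrFun h2 z
      rw [Finset.sum_apply]
      refine this.trans ?_
      show ∑ x, U.P z x * _ = _
      refine Finset.sum_congr rfl fun x _ => ?_
      rw [Pi.smul_apply, smul_eq_mul, mul_comm]
      rfl
    have h4 : ∀ x, hermForm (n + 1) F q v (U.bv x.rev) = ((U.Pg⁻¹).1 *ᵥ v) x := by
      intro x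
      conv_lhs => rw [h3]
      rw [herm_sum_left, Finset.sum_eq_single x]
      · rw [herm_smul_left, U.gram, if_pos rfl, mul_one]
      · intro z _ hz
        rw [herm_smul_left, U.gram, if_neg (fun h => hz (Fin.rev_injective h.symm)), mul_zero]
      · intro h; exact absurd (Finset.mem_univ _) h
    rw [Finset.sum_congr rfl fun x _ => by rw [h4]]
    exact h3
  conv_lhs => rw [h1 w, Finset.sum_congr rfl fun x _ => by rw [U.herm_V0 hw x], Finset.sum_eq_single (mi n)
    (fun x _ hx => by rw [if_neg hx, zero_smul]) (fun h => absurd (Finset.mem_univ _) h), if_pos rfl]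

theorem toV_Z_iff (a : Fin ((n + 1) / 2) × Bool) (p : (U.Fr).Adm) (s : SJ hF n) :
    U.toV s = (U.Fr).Z a p ↔ s.1 = mZ q a (U.om p.w) p.c := by
  have hw : p.w ∈ U.W.V0 := (U.Fr).ok_mem p.ok
  have hm : ∀ x y, (mZ q a (U.om p.w) p.c).1 x y = hermForm (n + 1) F q ((U.Fr).Z a p (U.bv y)) (U.bv x.rev) := by
    intro x y
    rw [U.herm_Z, U.herm_V0 hw, U.herm_V0' hw]
    unfold mZ
    by_cases hn : Even n
    · rw [tv_tv_tv_apply (pos_rev_ne_mid hn a).symm (pos_ne_mid hn a) (pos_ne_self_rev a)]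
      rcases Classical.propComplete (x = pos n a) with h1 | h1 <;>
        rcases Classical.propComplete (x = mi n) with h2 | h2 <;>
        rcases Classical.propComplete (y = (pos n a).rev) with h3 | h3 <;>
        rcases Classical.propComplete (y = mi n) with h4 | h4 <;>
        simp only [h1, h2, h3, h4, if_true, if_false, and_true, and_false, true_and, false_and, and_self] <;> ring
    · rw [U.om_of_odd hn hw, tv_zero, one_mul, zero_pow_q hF, neg_zero, tv_zero, one_mul, tv_apply (pos_ne_self_rev a)]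
      simp
  constructor
  · intro h
    apply Subtype.ext
    ext x y
    rw [hm, U.entry, h]
  · intro h
    apply U.eq_of_entry (Z_mem hF U.W a p)
    intro x y
    rw [h, hm]

theorem adm_c (p : (U.Fr).Adm) : p.c + p.c ^ q = -(U.om p.w * (U.om p.w) ^ q) := by
  have hw : p.w ∈ U.W.V0 := (U.Fr).ok_mem p.ok
  have h1 := (ok_iff hF).1 p.ok.2
  rw [h1]
  congr 1
  have h2 := U.V0_eq hw
  conv_lhs => rw [h2]
  rw [herm_smul_left, herm_smul_right, U.gram]
  by_cases hn : Even n
  · rw [if_pos (mid_rev hn).symm, mul_one]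
  · rw [U.om_of_odd hn hw, zero_mul, zero_mul]

/-- admissible pairs from coordinates -/
theorem exists_adm_of {ω c : F} (h : c + c ^ q = -(ω * ω ^ q)) (hω : ¬ Even n → ω = 0) :
    ∃ p : (U.Fr).Adm, U.om p.w = ω ∧ p.c = c := by
  by_cases hn : Even n
  · have hmid : U.bv (mi n) ∈ U.W.V0 := U.mid _ (mid_rev hn).symm
    have hg : hermForm (n + 1) F q (U.bv (mi n)) (U.bv (mi n)) = 1 := by
      rw [U.gram, if_pos (mid_rev hn).symm]
    refine ⟨⟨ω • U.bv (mi n), c, U.W.V0.smul_mem ω hmid, ?_⟩, ?_, rfl⟩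
    · rw [ok_iff, herm_smul_left, herm_smul_right, hg, mul_one]
      exact h
    · unfold om
      rw [mid_rev hn, herm_smul_left, hg, mul_one]
  · rw [hω hn] at h ⊢
    refine ⟨⟨0, c, U.W.V0.zero_mem, ?_⟩, ?_, rfl⟩
    · rw [ok_iff, herm_zero_left, h]
      ring
    · unfold om
      rw [herm_zero_left]

end UB

end

end Cfsg.Agent.H356.TU
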