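import Cfsg.Agent.H356.TU.Fin

/-!
# Change of signs of the root elements; the covering of the positive roots of `SU_{n+1}(q)`
-/

set_option autoImplicit false
set_option linter.unusedSectionVars false
set_option linter.unusedSimpArgs false

namespace Cfsg.Agent.H356.TU

open Cfsg.Agent.H45.UniE

section sgn

variable {ι Φ k G : Type*} [Field k] [Group G]

/-- group data with signs -/
def sgnG (D : GDat ι Φ k G) (ε : Φ → k) (hε : ∀ b, ε b * ε b = 1) : GDat ι Φ k G where
  x i s := D.x i (ε (D.zi i) * s)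
  y i s := D.y i (ε (D.zi i) * s)
  z b s := D.z b (ε b * s)
  zi := D.zi
  ht := D.ht
  T := D.T
  δ := D.δ
  hh := D.hh
  τ := D.τ
  ht_pos := D.ht_pos
  x_eq i s := D.x_eq i _
  z_add b s t := by rw [mul_add, D.z_add]
  y_add i s t := by rw [mul_add, D.y_add]
  δ_mul := D.δ_mul
  δ_mem := D.δ_mem
  hh_mem := D.hh_mem
  δ_z s b a := by
    rw [D.δ_z]
    congr 2
    ring
  T_x t ht i := by
    obtain ⟨u, hu⟩ := D.T_x t ht i
    refine ⟨u, fun a => ?_⟩
    rw [hu]
    congr 2
    ring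
  T_y t ht i := by
    obtain ⟨u, hu⟩ := D.T_y t ht i
    refine ⟨u, fun a => ?_⟩
    rw [hu]
    congr 2
    ring
  comm i j a s h := D.comm i j _ _ h
  rank i a s c hc := by
    have h1 := D.rank i (ε (D.zi i) * a) (ε (D.zi i) * s) c (by
      rw [hc]
      have := hε (D.zi i)
      linear_combination (-(a * s)) * this)
    rw [h1, mul_div_assoc, mul_div_assoc]
  gen := by
    rw [eq_top_iff, ← D.gen, Subgroup.closure_le]
    rintro g ⟨i, s, h⟩
    have e : ε (D.zi i) * (ε (D.zi i) * s) = s := by rw [← mul_assoc, hε, one_mul]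
    refine Subgroup.subset_closure ⟨i, ε (D.zi i) * s, ?_⟩
    rw [e]
    exact h
  cmt i b s := by
    obtain ⟨l, hl, h⟩ := D.cmt i b (ε (D.zi i) * s)
    refine ⟨l.map fun a => (a.1, ε a.1 * a.2.1 * ε b ^ a.2.2, a.2.2), ?_, fun t => ?_⟩
    · intro a ha
      obtain ⟨c, hc, rfl⟩ := List.mem_map.1 ha
      exact hl c hc
    · have e1 : ε (D.zi i) * -s = -(ε (D.zi i) * s) := by ring
      rw [e1, h, List.map_map]
      congr 1
      apply List.map_congr_left
      intro a _
      show D.z a.1 _ = D.z a.1 _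
      congr 1
      show _ = ε a.1 * (ε a.1 * a.2.1 * ε b ^ a.2.2 * t ^ a.2.2)
      rw [mul_pow]
      have := hε a.1
      linear_combination (-(a.2.1 * ε b ^ a.2.2 * t ^ a.2.2)) * this
  τ_mul := D.τ_mul
  τ_τ := D.τ_τ
  τ_x i s := D.τ_x i _
  τ_T := D.τ_T

/-- group data and fundamental functions with signs -/
def sgnF [DecidableEq ι] (D : FDat ι Φ k G) (ε : Φ → k) (hε : ∀ b, ε b * ε b = 1) : FDat ι Φ k G where
  toGDat := sgnG D.toGDat ε hε
  Δ := D.Δ
  wt := D.wt
  N := D.N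
  M := D.M
  Δ_one := D.Δ_one
  Δ_z i b g s := D.Δ_z i b g _
  Δ_T := D.Δ_T
  Δ_hh := D.Δ_hh
  Δ_δ := D.Δ_δ
  Δ_τ := D.Δ_τ
  pol_z i b g h := by
    obtain ⟨P, hP, hP'⟩ := D.pol_z i b g h
    refine ⟨P.comp (Polynomial.C (ε b) * Polynomial.X), ?_, fun s => ?_⟩
    · refine (Polynomial.natDegree_comp_le).trans ?_
      refine (Nat.mul_le_mul hP ((Polynomial.natDegree_C_mul_le _ _).trans Polynomial.natDegree_X_le)).trans ?_
      rw [mul_one]
    · rw [Polynomial.eval_comp, Polynomial.eval_mul, Polynomial.eval_C, Polynomial.eval_X]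
      exact hP' _
  pol_δ := D.pol_δ

end sgn

section cov

open Matrix Cfsg Cfsg.Agent.H356.TA Cfsg.Agent.LieClassical.HermBasic
open Cfsg.Agent.Nodes.RGDTypeA Cfsg.Agent.TitsThree.KSideA
open Cfsg.Agent.H564.TWP (Cov pairCls pairCls')

/-- the signs -/
def eps {n : ℕ} (k : Type*) [Field k] (b : Pos n) : k := if (b.1.1 : ℕ) + b.1.2 ≤ n then 1 else -1

theorem eps_mul {n : ℕ} (k : Type*) [Field k] (b : Pos n) : eps k b * eps k b = 1 := by
  unfold eps
  split_ifs <;> ring

/-- the fundamental functions of `SL_{n+1}` with signs -/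
noncomputable def fdE (n : ℕ) (k : Type*) [Field k] : FDat (Fin n) (Pos n) k (SpecialLinearGroup (Fin (n + 1)) k) :=
  sgnF (fdA n k) (eps k) (eps_mul k)

theorem U_le_fdE (n : ℕ) (k : Type*) [Field k] : (fdA n k).U ≤ (fdE n k).U := by
  unfold GDat.U
  rw [Subgroup.closure_le]
  rintro g ⟨b, s, rfl⟩
  refine Subgroup.subset_closure ⟨b, eps k b * s, ?_⟩
  show _ = (fdA n k).z b (eps k b * (eps k b * s))
  rw [← mul_assoc, eps_mul, one_mul]

theorem Um_le_fdE (n : ℕ) (k : Type*) [Field k] : (fdA n k).Um ≤ (fdE n k).Um := by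
  unfold GDat.Um
  rw [Subgroup.closure_le]
  rintro g ⟨b, s, rfl⟩
  refine Subgroup.subset_closure ⟨b, eps k b * s, ?_⟩
  show _ = (fdA n k).τ ((fdA n k).z b (eps k b * (eps k b * s)))
  rw [← mul_assoc, eps_mul, one_mul]

variable {F : Type*} [Field F] [Fintype F] {q : ℕ} {n : ℕ} {k : Type*} [Field k] [Algebra F k]

theorem fst_ne {a b : Fin ((n + 1) / 2) × Bool} (h1 : pos n a ≠ pos n b) (h2 : pos n a ≠ (pos n b).rev) : a.1 ≠ b.1 := by
  intro h
  obtain ⟨i, s⟩ := a
  obtain ⟨j, t⟩ := b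
  have h' : i = j := h
  subst h'
  have e := pos_neg (n := n) (i, t)
  cases s <;> cases t
  · exact h1 rfl
  · exact h2 e
  · exact h2 e
  · exact h1 rfl

/-- **the covering of the positive roots** -/
theorem cov_U (hF : Fintype.card F = q ^ 2) {P : Subgroup (SpecialLinearGroup (Fin (n + 1)) k)}
    (hX : ∀ (a b : Fin ((n + 1) / 2) × Bool) (t : F), a.1 ≠ b.1 → pos n a < (pos n b).rev →
      bcA n F k (mX q a b t) ∈ P)
    (hZ : ∀ (a : Fin ((n + 1) / 2) × Bool) (ω c : F), pos n a < (pos n a).rev → c + c ^ q = -(ω * ω ^ q) →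
      (¬ Even n → ω = 0) → bcA n F k (mZ q a ω c) ∈ P) (b : Pos n) : Cov (fdE n k).toGDat F P q b := by
  classical
  have hq : 1 < q := two_le hF
  have hq0 : q ≠ 0 := by omega
  -- pairs
  have hpair : ∀ (x y : Fin (n + 1)) (hxy : x < y) (hxy' : y.rev < x.rev), (x : ℕ) + y < n → x ≠ x.rev → y ≠ y.rev →
      ∀ b : Pos n, b = ⟨(x, y), hxy⟩ ∨ b = ⟨(y.rev, x.rev), hxy'⟩ → Cov (fdE n k).toGDat F P q b := by
    intro x y hxy hxy' hs hx hy b hb
    have hxr : (x.rev : ℕ) = n - x := by rw [Fin.val_rev]; omega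
    have hyr : (y.rev : ℕ) = n - y := by rw [Fin.val_rev]; omega
    have hxy0 : (x : ℕ) < y := hxy
    have hht : (fdE n k).ht ⟨(y.rev, x.rev), hxy'⟩ = (fdE n k).ht ⟨(x, y), hxy⟩ := by
      show 2 * ((x.rev : ℕ) - (y.rev : ℕ)) = 2 * ((y : ℕ) - x)
      rw [hxr, hyr]
      omega
    refine Or.inr ⟨pairCls (fdE n k).toGDat hq (a := ⟨(y.rev, x.rev), hxy'⟩) (b := ⟨(x, y), hxy⟩) hht fun t => ?_, ?_⟩
    · rcases pos_or x with ⟨a, ha⟩ | h
      swap
      · exact absurd h hx
      rcases pos_or y.rev with ⟨c, hc⟩ | h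
      swap
      · exact absurd (by rw [Fin.rev_rev] at h; exact h.symm) hy
      have hc' : (pos n c).rev = y := by rw [← hc, Fin.rev_rev]
      have hne : a.1 ≠ c.1 := by
        refine fst_ne ?_ ?_
        · rw [← ha, ← hc]
          intro h
          have := congrArg Fin.val h
          rw [hyr] at this
          omega
        · rw [← ha, hc']
          exact hxy.ne
      have h1 := hX a c t hne (by rw [← ha, hc']; exact hxy)
      rw [bcA_mX, ← ha, hc', ← hc] at h1
      have e1 : eps k (⟨(y.rev, x.rev), hxy'⟩ : Pos n) = -1 := by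
        unfold eps
        rw [if_neg]
        show ¬ ((y.rev : ℕ) + (x.rev : ℕ) ≤ n)
        rw [hxr, hyr]
        omega
      have e2 : eps k (⟨(x, y), hxy⟩ : Pos n) = 1 := by
        unfold eps
        rw [if_pos]
        show (x : ℕ) + y ≤ n
        omega
      show tv y.rev x.rev (eps k _ * algebraMap F k t ^ q) * tv x y (eps k _ * algebraMap F k t) ∈ P
      rw [e1, e2, one_mul]
      have h3 : Commute (tv y.rev x.rev (-1 * algebraMap F k t ^ q)) (tv x y (algebraMap F k t)) :=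
        tv_commute (Ne.symm hx) (Ne.symm hy) _ _
      rw [h3.eq]
      have h4 : algebraMap F k (-t ^ q) = -1 * algebraMap F k t ^ q := by
        rw [map_neg, map_pow]; ring
      rwa [h4] at h1
    · rcases hb with h | h
      · exact Or.inr h
      · exact Or.inl h
  -- pairs with the middle
  have hmid : ∀ (x : Fin (n + 1)) (h1 : x < mi n) (h2 : mi n < x.rev), Even n →
      ∀ b : Pos n, b = ⟨(x, mi n), h1⟩ ∨ b = ⟨(mi n, x.rev), h2⟩ → Cov (fdE n k).toGDat F P q b := by
    intro x hx1 hx2 hn b hb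
    have hn' : n % 2 = 0 := Nat.even_iff.1 hn
    have hxr : (x.rev : ℕ) = n - x := by rw [Fin.val_rev]; omega
    have hx1' : (x : ℕ) < n / 2 := hx1
    have hx3 : x < x.rev := hx1.trans hx2
    obtain ⟨κ, hκ⟩ := exists_trace_eq hF (c := -1) (by rw [neg_pow_q hF, one_pow])
    have hht : (fdE n k).ht ⟨(x, mi n), hx1⟩ = (fdE n k).ht ⟨(mi n, x.rev), hx2⟩ := by
      show 2 * ((mi n : ℕ) - (x : ℕ)) = 2 * ((x.rev : ℕ) - mi n)
      rw [hxr, mi_val]
      omega
    have hhc : (fdE n k).ht ⟨(x, x.rev), hx3⟩ = (fdE n k).ht ⟨(x, mi n), hx1⟩ + (fdE n k).ht ⟨(mi n, x.rev), hx2⟩ := by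
      show 2 * ((x.rev : ℕ) - x) = 2 * ((mi n : ℕ) - (x : ℕ)) + 2 * ((x.rev : ℕ) - mi n)
      rw [hxr, mi_val]
      omega
    refine Or.inr ⟨pairCls' (fdE n k).toGDat hq (a := ⟨(x, mi n), hx1⟩) (b := ⟨(mi n, x.rev), hx2⟩)
      (c := ⟨(x, x.rev), hx3⟩) hht hhc (algebraMap F k (κ + 1)) fun t => ?_, ?_⟩
    · rcases pos_or x with ⟨a, ha⟩ | h
      swap
      · exact absurd h hx3.ne
      have hc1 : (κ * (t * t ^ q)) + (κ * (t * t ^ q)) ^ q = -((-t) * (-t) ^ q) := by
        rw [mul_pow, norm_pow_q hF, neg_pow_q hF, ← add_mul, hκ]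
        ring
      have h1 := hZ a (-t) (κ * (t * t ^ q)) (by rw [← ha]; exact hx3) hc1 (fun h => absurd hn h)
      rw [bcA_mZ, ← ha, neg_pow_q hF, neg_neg] at h1
      have e1 : eps k (⟨(x, mi n), hx1⟩ : Pos n) = 1 := by
        unfold eps
        rw [if_pos]
        show (x : ℕ) + (mi n : ℕ) ≤ n
        rw [mi_val]
        omega
      have e2 : eps k (⟨(mi n, x.rev), hx2⟩ : Pos n) = -1 := by
        unfold eps
        rw [if_neg]
        show ¬ ((mi n : ℕ) + (x.rev : ℕ) ≤ n)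
        rw [hxr, mi_val]
        omega
      have e3 : eps k (⟨(x, x.rev), hx3⟩ : Pos n) = 1 := by
        unfold eps
        rw [if_pos]
        show (x : ℕ) + (x.rev : ℕ) ≤ n
        rw [hxr]
        omega
      show tv x (mi n) (eps k _ * algebraMap F k t ^ q) * tv (mi n) x.rev (eps k _ * algebraMap F k t) *
        tv x x.rev (eps k _ * (algebraMap F k (κ + 1) * algebraMap F k t ^ q * algebraMap F k t)) ∈ P
      rw [e1, e2, e3, one_mul, one_mul, tv_swap hx1.ne hx2.ne hx3.ne]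
      have h3 : ∀ u v : k, Commute (tv x x.rev u) (tv (mi n) x.rev v) := fun u v => tv_commute hx2.ne' hx3.ne u v
      have h4 : ∀ u v : k, Commute (tv x x.rev u) (tv x (mi n) v) := fun u v => tv_commute hx3.ne' hx1.ne u v
      rw [(h3 _ _).eq, mul_assoc (tv (mi n) x.rev _), (h4 _ _).eq, mul_assoc, mul_assoc, ← tv_add, ← mul_assoc]
      have e4 : algebraMap F k (-t) = -1 * algebraMap F k t := by rw [map_neg]; ring
      have e5 : algebraMap F k (t ^ q) = algebraMap F k t ^ q := map_pow _ _ _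
      have e6 : algebraMap F k (κ * (t * t ^ q)) = algebraMap F k t ^ q * (-1 * algebraMap F k t) +
          algebraMap F k (κ + 1) * algebraMap F k t ^ q * algebraMap F k t := by
        rw [map_mul, map_mul, map_pow, map_add, map_one]
        ring
      rwa [e4, e5, e6] at h1
    · exact hb
  obtain ⟨⟨x, y⟩, hxy⟩ := b
  have hxy0 : x < y := hxy
  have hxyv : (x : ℕ) < y := hxy0
  have hxr : (x.rev : ℕ) = n - x := by rw [Fin.val_rev]; omega
  have hyr : (y.rev : ℕ) = n - y := by rw [Fin.val_rev]; omega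
  by_cases h0 : y = x.rev
  · -- the single roots
    subst h0
    obtain ⟨x0, hx0, hx0'⟩ := exists_trace_zero_ne hF
    left
    have hinj : Function.Injective (fun u : {u : F // u ^ q = u} => algebraMap F k (u.1 * x0)) := by
      intro u v h
      have h1 := (algebraMap F k).injective h
      exact Subtype.ext (mul_right_cancel₀ hx0 h1)
    refine ⟨Finset.univ.image (fun u : {u : F // u ^ q = u} => algebraMap F k (u.1 * x0)), ?_, ?_⟩
    · rw [Finset.card_image_of_injective _ hinj, Finset.card_univ, ← Nat.card_eq_fintype_card, card_fixed hF]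
    · intro s hs
      rw [Finset.mem_image] at hs
      obtain ⟨u, -, rfl⟩ := hs
      rcases pos_or x with ⟨a, ha⟩ | h
      swap
      · exact absurd h hxy0.ne
      have h1 := hZ a 0 (u.1 * x0) (by rw [← ha]; exact hxy0) (by
        rw [mul_pow, u.2, zero_mul, neg_zero, ← mul_add, hx0', mul_zero]) (fun _ => rfl)
      rw [bcA_mZ, ← ha, map_zero, tv_zero, zero_pow hq0, neg_zero, map_zero, tv_zero, mul_one, one_mul] at h1
      have e1 : eps k (⟨(x, x.rev), hxy⟩ : Pos n) = 1 := by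
        unfold eps
        rw [if_pos]
        show (x : ℕ) + (x.rev : ℕ) ≤ n
        rw [hxr]
        omega
      show tv x x.rev (eps k _ * algebraMap F k (u.1 * x0)) ∈ P
      rw [e1, one_mul]
      exact h1
  have h0v : (y : ℕ) ≠ n - x := fun h => h0 (Fin.ext (by rw [hxr]; exact h))
  by_cases hx : x = x.rev
  · have hm := eq_mid hx
    have hn : Even n := by
      by_contra h
      exact ne_rev_of_odd h x hx
    have hxm : (x : ℕ) = n / 2 := by rw [hm]; rfl
    have hn' : n % 2 = 0 := Nat.even_iff.1 hn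
    have h1 : y.rev < mi n := by rw [Fin.lt_def, hyr, mi_val]; omega
    have h2 : mi n < y.rev.rev := by rw [Fin.rev_rev, ← hm]; exact hxy0
    refine hmid y.rev h1 h2 hn _ (Or.inr ?_)
    apply Subtype.ext
    show (x, y) = (mi n, y.rev.rev)
    rw [Fin.rev_rev, ← hm]
  by_cases hy : y = y.rev
  · have hm := eq_mid hy
    have hn : Even n := by
      by_contra h
      exact ne_rev_of_odd h y hy
    have hym : (y : ℕ) = n / 2 := by rw [hm]; rfl
    have hn' : n % 2 = 0 := Nat.even_iff.1 hn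
    have h1 : x < mi n := by rw [← hm]; exact hxy0
    have h2 : mi n < x.rev := by rw [Fin.lt_def, hxr, mi_val]; omega
    refine hmid x h1 h2 hn _ (Or.inl ?_)
    apply Subtype.ext
    show (x, y) = (x, mi n)
    rw [← hm]
  by_cases hs : (x : ℕ) + y < n
  · exact hpair x y hxy0 (by rw [Fin.lt_def, hxr, hyr]; omega) hs hx hy _ (Or.inl rfl)
  · have h1 : y.rev < x.rev := by rw [Fin.lt_def, hxr, hyr]; omega
    have h2 : x.rev.rev < y.rev.rev := by rw [Fin.rev_rev, Fin.rev_rev]; exact hxy0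
    refine hpair y.rev x.rev h1 h2 (by rw [hxr, hyr]; omega) (by rw [Fin.rev_rev]; exact Ne.symm hy)
      (by rw [Fin.rev_rev]; exact Ne.symm hx) _ (Or.inr ?_)
    apply Subtype.ext
    show (x, y) = (x.rev.rev, y.rev.rev)
    rw [Fin.rev_rev, Fin.rev_rev]

end cov

section fin

open Matrix Cfsg Cfsg.Agent.H356.TA Cfsg.Agent.H379.SUD

universe u v

/-- **the class form of `SU_{n+1}(q)`**, `n ≥ 2` -/
theorem clsSU_succ {F : Type v} [Field F] [Fintype F] {p q n f : ℕ} [Fact p.Prime] [CharP F p]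
    (hF : Fintype.card F = q ^ 2) (hn : 2 ≤ n) (hf : q = p ^ f) : ClsSU.{u} p (n + 1) q f F :=
  clsSU_aux hF hn hf (D := fdE n (AlgebraicClosure F)) (fun _ _ => rfl) (U_le_fdE n _) (Um_le_fdE n _) le_rfl
    (fun _ => rfl) fun _ hX hZ b => cov_U hF hX hZ b

/-- **the class form of `SU_N(q)`**, `N ≥ 3` -/
theorem clsSU {F : Type v} [Field F] [Fintype F] {p q N f : ℕ} [Fact p.Prime] (hF : Fintype.card F = q ^ 2)
    (hN : 3 ≤ N) (hf : q = p ^ f) : ClsSU.{u} p N q f F := by
  have hp : CharP F p := by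
    obtain ⟨r, hr⟩ := CharP.exists F
    have hrp : r.Prime := (CharP.char_is_prime_or_zero F r).resolve_right (CharP.char_ne_zero_of_finite F r)
    have : Fact r.Prime := ⟨hrp⟩
    obtain ⟨m, -, hm⟩ := FiniteField.card F r
    have h1 : r ∣ p ^ (f * 2) := by
      rw [pow_mul, ← hf, ← hF, hm]
      exact dvd_pow_self r m.pos.ne'
    have h2 : r = p := (Nat.prime_dvd_prime_iff_eq hrp (Fact.out : p.Prime)).1 (hrp.dvd_of_dvd_pow h1)
    rwa [← h2]
  obtain ⟨n, rfl⟩ : ∃ n, N = n + 1 := ⟨N - 1, by omega⟩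
  exact clsSU_succ hF (by omega) hf

end fin

end Cfsg.Agent.H356.TU
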