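import Cfsg.Agent.H356.TU.Coord
import Cfsg.Agent.H564.TWP.Low

/-!
# The map of `sysU`, unipotent elements, the hypotheses
-/

set_option autoImplicit false
set_option linter.unusedSectionVars false
set_option linter.unusedSimpArgs false

namespace Cfsg.Agent.H356.TU

open Matrix Cfsg Cfsg.Agent.H356.TA Cfsg.Agent.LieClassical.HermBasic Cfsg.Agent.LieClassical.HermSiegel
open Cfsg.Agent.TitsThree Cfsg.Agent.TitsThree.Siegel Cfsg.Agent.TitsThree.SiegelGen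
  Cfsg.Agent.TitsThree.WittFrame Cfsg.Agent.TitsThree.WBridge Cfsg.Agent.TitsThree.WittWeyl
  Cfsg.Agent.TitsThree.FrameCN Cfsg.Agent.TitsThree.KSideU Cfsg.Agent.TitsThree.KSideUDesc
open Cfsg.Agent.TitsThree.KSideA Cfsg.Agent.Nodes.RGDTypeA
open CoxeterSystem Cfsg.Agent.ChevalleyStructure.CoxeterGeom Cfsg.Agent.Tits.Roots
  Cfsg.Agent.Nodes.Comb Cfsg.Agent.Nodes.Reps Cfsg.Agent.Nodes.BNOf Cfsg.Agent.Nodes.RGDLib
open Cfsg.Agent.Nodes.RGDAllP Cfsg.Agent.Nodes.WittU Cfsg.Agent.Nodes.OppDec Cfsg.Agent.H45.UniE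
open Cfsg.Agent.Nodes.TypeC (isCartan nx sg wt wt_apply rt_of_ok Ok)
open Cfsg.Agent.Nodes.WittRoot (Amb Mono rg rg_eq)
open Cfsg.Agent.Nodes.WittRGD (Tor nn nn_mem nn_mem_sup mono_nn)
open Cfsg.Agent.H564.TW (Cmq datQ)

variable {F : Type*} [Field F] [Fintype F] {q : ℕ} {hF : Fintype.card F = q ^ 2} {n : ℕ} (U : UB hF n)

/-- **the map into `SL_{n+1}(k)`** -/
theorem map_sysU {p : ℕ} [Fact p.Prime] [CharP F p] (hn : 2 ≤ n) {k : Type*} [Field k] [Algebra F k] [Infinite k]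
    {D : FDat (Fin n) (Pos n) k (SpecialLinearGroup (Fin (n + 1)) k)} (hΔ : ∀ i g, D.Δ i g = DA i g)
    (hU : (fdA n k).U ≤ D.U) (hUm : (fdA n k).Um ≤ D.Um) (hT : T (Fin (n + 1)) k ≤ D.T)
    (hτ : ∀ g, D.τ g = g.transpose) :
    (sysU U (p := p) hn).Map D (phi hF n k) (chi q n k) (orb n) (ee q n) where
  U u hu := hU (phi_U (U := U) hu)
  Um u hu := hUm (phi_Um (U := U) hu)
  H u hu := hT (phi_T hu)
  hh i j b := by
    rw [hΔ]
    exact DA_hh i j b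
  n i j := by
    rw [hΔ]
    exact DA_nS j i
  e_pos i := by
    unfold ee
    split_ifs
    · exact Nat.one_pos
    · exact q_pos hF
  τ g hg := by
    obtain ⟨s, rfl⟩ := hg
    rw [hτ]
    exact ⟨⟨s.1.transpose, transpose_mem s.2⟩, rfl⟩

/-! ### elements of the unipotent group -/

/-- the sums over the initial segments determine the sign of a root -/
theorem nonneg_of_sum {m : ℕ} {x : Fin m → ℤ} {a b : Fin m × Bool}
    (e : Cfsg.Agent.Nodes.TypeC.ee x = wt a + wt b)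
    (h : ∀ j : Fin m, 0 ≤ (if a.1 ≤ j then (if a.2 then (1 : ℤ) else -1) else 0) +
      if b.1 ≤ j then (if b.2 then (1 : ℤ) else -1) else 0) : 0 ≤ x := by
  intro j
  have h1 := sum_ee x j
  rw [e] at h1
  simp only [Pi.add_apply, Finset.sum_add_distrib, sum_wt] at h1
  have h2 := h j
  rw [h1] at h2
  show 0 ≤ x j
  split_ifs at h2
  · rwa [one_mul] at h2
  · omega

theorem mX_mem {a b : Fin ((n + 1) / 2) × Bool} (hab : a.1 ≠ b.1) (h : pos n a < (pos n b).rev) (t : F) :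
    ∃ s : SJ hF n, s ∈ RGD.Sup U.XS (RGD.Pos (UB.cs n) (isCartan ((n + 1) / 2))) ∧ s.1 = mX q a b t := by
  obtain ⟨x, hx, e⟩ := rt_of_ok (cs := UB.cs n) (a := a) (b := b) (Or.inl hab)
  have hx0 : 0 ≤ x := by
    refine nonneg_of_sum e fun j => ?_
    have ha2 := a.1.2
    have hb2 := b.1.2
    have hab' : (a.1 : ℕ) ≠ b.1 := fun h => hab (Fin.ext h)
    obtain ⟨i, s⟩ := a
    obtain ⟨i', s'⟩ := b
    simp only at ha2 hb2 hab' ⊢
    rw [Fin.lt_def, Fin.val_rev] at h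
    simp only [Fin.le_def]
    cases s <;> cases s'
    · rw [val_pos_false, val_pos_false] at h
      omega
    · rw [val_pos_false, val_pos_true] at h
      by_cases c1 : (i : ℕ) ≤ j <;> by_cases c2 : (i' : ℕ) ≤ j <;> simp [c1, c2]
      omega
    · rw [val_pos_true, val_pos_false] at h
      by_cases c1 : (i : ℕ) ≤ j <;> by_cases c2 : (i' : ℕ) ≤ j <;> simp [c1, c2]
      omega
    · by_cases c1 : (i : ℕ) ≤ j <;> by_cases c2 : (i' : ℕ) ≤ j <;> simp [c1, c2]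
  obtain ⟨s, hs⟩ := U.mem_IU.1 (X_mem hF U.W a b t)
  have hs' := (U.toV_X_iff hab t s).1 hs
  exact ⟨s, RGD.le_Sup (S := RGD.Pos (UB.cs n) (isCartan ((n + 1) / 2))) ⟨hx, hx0⟩
    ((U.mem_XS_of hab (rg_eq U.Fr (Or.inl hab) e)).2 ⟨t, hs'⟩), hs'⟩

theorem mZ_mem {a : Fin ((n + 1) / 2) × Bool} (h : pos n a < (pos n a).rev) {ω c : F} (hc : c + c ^ q = -(ω * ω ^ q))
    (hω : ¬ Even n → ω = 0) :
    ∃ s : SJ hF n, s ∈ RGD.Sup U.XS (RGD.Pos (UB.cs n) (isCartan ((n + 1) / 2))) ∧ s.1 = mZ q a ω c := by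
  obtain ⟨x, hx, e⟩ := rt_of_ok (cs := UB.cs n) (a := a) (b := a) (Or.inr rfl)
  have hx0 : 0 ≤ x := by
    refine nonneg_of_sum e fun j => ?_
    have ha2 := a.1.2
    obtain ⟨i, s⟩ := a
    rw [Fin.lt_def, Fin.val_rev] at h
    cases s
    · rw [val_pos_false] at h
      simp only at ha2
      omega
    · simp only [if_true]
      split_ifs <;> norm_num
  obtain ⟨p, hp1, hp2⟩ := U.exists_adm_of hc hω
  obtain ⟨s, hs⟩ := U.mem_IU.1 (Z_mem hF U.W a p)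
  have hs' := (U.toV_Z_iff a p s).1 hs
  rw [hp1, hp2] at hs'
  exact ⟨s, RGD.le_Sup (S := RGD.Pos (UB.cs n) (isCartan ((n + 1) / 2))) ⟨hx, hx0⟩
    ((U.mem_XS_of' (rg_eq U.Fr (Or.inr rfl) e)).2 ⟨ω, c, hc, hω, hs'⟩), hs'⟩

theorem phi_mX {p : ℕ} [Fact p.Prime] [CharP F p] (hn : 2 ≤ n) {k : Type*} [Field k] [Algebra F k]
    (a b : Fin ((n + 1) / 2) × Bool) (t : F) (hab : a.1 ≠ b.1) (h : pos n a < (pos n b).rev) :
    bcA n F k (mX q a b t) ∈ (sysU U (p := p) hn).U.map (phi hF n k) := by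
  obtain ⟨s, hs, e⟩ := mX_mem U hab h t
  exact ⟨s, hs, by rw [phi_val, e]⟩

theorem phi_mZ {p : ℕ} [Fact p.Prime] [CharP F p] (hn : 2 ≤ n) {k : Type*} [Field k] [Algebra F k]
    (a : Fin ((n + 1) / 2) × Bool) (ω c : F) (h : pos n a < (pos n a).rev) (hc : c + c ^ q = -(ω * ω ^ q))
    (hω : ¬ Even n → ω = 0) : bcA n F k (mZ q a ω c) ∈ (sysU U (p := p) hn).U.map (phi hF n k) := by
  obtain ⟨s, hs, e⟩ := mZ_mem U h hc hω
  exact ⟨s, hs, by rw [phi_val, e]⟩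

/-! ### the hypotheses -/

theorem isCyclic_Cs (j : ℕ) : IsCyclic (Cs (F := F) q n j) := by
  have : IsCyclic Fˣ := inferInstance
  infer_instance

/-- **the hypotheses of the twisted engine**, from covering, the sums of the torus parts and the weights -/
theorem hyp_sysU {p : ℕ} [Fact p.Prime] [CharP F p] (hn : 2 ≤ n) {k : Type*} [Field k] [Algebra F k] [Infinite k]
    [CharP k p] {D : FDat (Fin n) (Pos n) k (SpecialLinearGroup (Fin (n + 1)) k)} (hΔ : ∀ i g, D.Δ i g = DA i g)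
    (hU : (fdA n k).U ≤ D.U) (hUm : (fdA n k).Um ≤ D.Um) (hT : T (Fin (n + 1)) k ≤ D.T)
    (hτ : ∀ g, D.τ g = g.transpose)
    (hcov : ∀ b, Cfsg.Agent.H564.TWP.Cov D.toGDat F ((sysU U (p := p) hn).U.map (phi hF n k)) q b)
    (hsg : ∀ (a : Fin ((n + 1) / 2) → ℕ) (j : Fin ((n + 1) / 2)) (b : Cs (F := F) q n j),
      ((chi q n k j b : kˣ) : k) ^ a j ≠ 1 → (sysU U (p := p) hn).sg (chi q n k) a j = 0)
    (hlam : ∀ a : Fin ((n + 1) / 2) → ℕ, (∀ j, a j ≤ Nat.card (Cs (F := F) q n j)) →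
      ∃ l : Fin n → ℕ, (∀ i, l i < q) ∧ ∀ j, Cfsg.Agent.H564.TWP.TSys.wt (orb n) (ee q n) l j = a j) :
    Cfsg.Agent.H564.TWP.Hyp p (sysU U (p := p) hn) D (phi hF n k) (chi q n k) (orb n) (ee q n) (fun _ => q) where
  map := map_sysU U hn hΔ hU hUm hT hτ
  Up := by
    have : Finite (CoxeterMatrix.B ((n + 1) / 2)).Group := UB.finiteW
    exact Cfsg.Agent.H564.TWP.isPGroup_U _ _
  Um := by
    have : Finite (CoxeterMatrix.B ((n + 1) / 2)).Group := UB.finiteW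
    exact Cfsg.Agent.H564.TWP.isPGroup_Um _ _
  fin j := inferInstance
  cyc j := isCyclic_Cs j
  χ_inj := chi_inj q n k
  sg0 := hsg
  qq_pos _ := q_pos hF
  cmq := Cfsg.Agent.H564.TWP.cmq_const D.toGDat q
  low l hl f hf h1 n' hn' := Cfsg.Agent.H564.TWP.low_const D (Fq := F) (by rw [hF, sq]) hcov (fun _ => q_pos hF) l hl f hf
    h1 n' hn'
  lam := hlam

/-- common eigenvectors -/
theorem wt_sysU {p : ℕ} [Fact p.Prime] [CharP F p] (hn : 2 ≤ n) {k W : Type*} [Field k] [CharP k p] [IsAlgClosed k]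
    [AddCommGroup W] [Module k W] : (sysU U (p := p) hn).Wt k W := by
  have : Finite (CoxeterMatrix.B ((n + 1) / 2)).Group := UB.finiteW
  exact Cfsg.Agent.H564.TWP.wt_ofRGD _ _

end Cfsg.Agent.H356.TU
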